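import Cfsg.Agent.E6Sub.Setup

/-!
Checked facts on the roots of E6 used for the subfield subgroup of the twisted group.
-/

set_option autoImplicit false
set_option maxRecDepth 4000
set_option synthInstance.maxSize 1024
set_option synthInstance.maxHeartbeats 200000

namespace Cfsg.Agent.E6Sub

open Cfsg.Lie Cfsg.Agent.ChevCore Cfsg.Agent.ChevGroup Cfsg.Agent.ChevIsogeny Cfsg.Agent.Chev54
open Cfsg.Agent.Twisted Cfsg.Agent.Twisted.TypeE6

/-- `T` is not the sum of `q` and `a` -/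
abbrev NoSum (T q a : Ix) : Prop :=
  ∃ j : Fin 6, coef chevE6 T.val j.val ≠ coef chevE6 q.val j.val + coef chevE6 a.val j.val

/-- `T` is the sum of `q` and `a` -/
abbrev IsSum (T q a : Ix) : Prop :=
  ∀ j : Fin 6, coef chevE6 T.val j.val = coef chevE6 q.val j.val + coef chevE6 a.val j.val

theorem climb_cert : ∀ r : Ix, fd.O.rho r ≠ r → 1 ≤ ht chevE6 r.val → ht chevE6 r.val ≤ 7 →
    ∃ k : Fin 4, ∃ a ∈ fd.orth k, ∃ T : Ix, IsSum T r a ∧ fd.O.rho T ≠ T ∧ a ≠ r ∧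
      (∀ a' ∈ fd.orth k, ∀ q : Ix, ht chevE6 q.val = ht chevE6 r.val → (q ≠ r ∨ a' ≠ a) →
        NoSum T q a') ∧
      (chevE6.commTerms r.val a.val = [(T.val, 1, 1, 1)] ∨
        chevE6.commTerms r.val a.val = [(T.val, -1, 1, 1)]) := by
  decide +kernel

theorem orth_facts : ∀ k : Fin 4, (fd.orth k).Nodup ∧
    ∀ a ∈ fd.orth k, ht chevE6 a.val = 1 := by decide +kernel

theorem strip_cert : ∀ δ : Ix, fd.O.rho δ = δ → 1 ≤ ht chevE6 δ.val → δ ≠ 71 →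
    ∃ k : Fin 4, (∀ b ∈ fd.O.cls k, δ ≠ b) ∧ fd.O.rho ((MT.S).actw (fd.O.wd k) δ) = (MT.S).actw (fd.O.wd k) δ ∧
      ht chevE6 δ.val < ht chevE6 ((MT.S).actw (fd.O.wd k) δ).val ∧
      ∃ a ∈ fd.O.cls k, ∃ T : Ix, IsSum T a δ ∧ δ ≠ a ∧
        (∀ q : Ix, ht chevE6 q.val = 1 → q ≠ a → NoSum T q δ) ∧
        (chevE6.commTerms a.val δ.val = [(T.val, 1, 1, 1)] ∨
          chevE6.commTerms a.val δ.val = [(T.val, -1, 1, 1)]) := by
  decide +kernel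

theorem ht_simple : ∀ r : Ix, ht chevE6 r.val = 1 → ∃ k : Fin 4, r ∈ fd.O.cls k := by decide +kernel

theorem high_single : ∀ r : Ix, 9 ≤ ht chevE6 r.val → fd.O.rho r = r := by decide +kernel

theorem top_pair : ∀ r : Ix, ht chevE6 r.val = 8 → r = 66 ∨ r = 68 := by decide +kernel

theorem pos_iff : ∀ r : Ix, (MT.S).pos r ↔ 1 ≤ ht chevE6 r.val := by decide +kernel

theorem neg_iff : ∀ r : Ix, (MT.S).pos ((MT.S).neg r) ↔ ht chevE6 r.val ≤ -1 := by decide +kernel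

theorem ht_ne : ∀ r : Ix, ht chevE6 r.val ≠ 0 ∧ ht chevE6 r.val ≤ 11 := by decide +kernel

theorem neg_coef : ∀ r : Ix, coef chevE6 r.val 1 < 0 → fd.O.rho r = r →
    (r = 0 ∧ fd.O.rho ((MT.S).actw (fd.O.wd 0) r) = (MT.S).actw (fd.O.wd 0) r ∧
      coef chevE6 ((MT.S).actw (fd.O.wd 0) r).val 1 = -1) ∨
    (coef chevE6 r.val 1 = -1 ∧ ∃ T : Ix, fd.O.rho T = T ∧ 1 ≤ ht chevE6 T.val ∧ T ≠ r ∧
      (MT.S).neg r ≠ T ∧ chevE6.commTerms r.val T.val = [] ∧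
      (71 : Ix) ≠ r ∧ (MT.S).neg r ≠ 71 ∧
      (chevE6.commTerms r.val 71 = [(T.val, 1, 1, 1)] ∨ chevE6.commTerms r.val 71 = [(T.val, -1, 1, 1)])) := by
  decide +kernel

theorem coef_pos : ∀ r : Ix, 1 ≤ coef chevE6 r.val 1 → 1 ≤ ht chevE6 r.val := by decide +kernel

theorem coef_rho : ∀ r : Ix, coef chevE6 (fd.O.rho r).val 1 = coef chevE6 r.val 1 := by decide +kernel

end Cfsg.Agent.E6Sub
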