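import Cfsg.Agent.E6Sub.Cert

/-!
A subgroup between the rational points and the twisted group that is not the twisted group meets the unipotent
group in rational points: an irrational coordinate climbs to the pair of height eight, and an irrational element
there generates everything.
-/

set_option autoImplicit false
set_option maxRecDepth 4000

namespace Cfsg.Agent.E6Sub

open Cfsg.Lie Cfsg.Agent.ChevCore Cfsg.Agent.ChevGroup Cfsg.Agent.ChevIsogeny Cfsg.Agent.Chev54
open Cfsg.Agent.Twisted Cfsg.Agent.Twisted.TypeE6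

variable {F : Type*} [Field F]

theorem cX_zero (r : Ix) : X r (0 : F) = 1 := (R0 F).x_zero r

theorem vec_X {r : Ix} {m : ℤ} (hm : 1 ≤ m) (h : ht chevE6 r.val = m) (t : F) :
    Vec m ((X r t : Gp F) : GL chevE6.Idx F) (Pi.single r.val t) := by
  rw [val_X, ← h]
  exact vec_xg uGoodE6 r.isLt (by omega) t

theorem vec_X_mul {r s : Ix} {m : ℤ} (hm : 1 ≤ m) (hr : ht chevE6 r.val = m) (hs : ht chevE6 s.val = m)
    (t u : F) :
    Vec m ((X r t * X s u : Gp F) : GL chevE6.Idx F) (Pi.single r.val t + Pi.single s.val u) := by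
  rw [Subgroup.coe_mul]
  exact (vec_X hm hr t).mul uGoodE6 hm (vec_X hm hs u)

theorem next_of_vec {m : ℤ} {g : Gp F} (h : Vec m (g : GL chevE6.Idx F) fun _ => 0) :
    g ∈ Um F (m + 1) := by
  have := h.2
  rwa [prodL_zero uGoodE6, inv_one, one_mul] at this

theorem eq_next {m : ℤ} (hm : 1 ≤ m) {g g' : Gp F} {d : ℕ → F} (h : Vec m (g : GL chevE6.Idx F) d)
    (h' : Vec m (g' : GL chevE6.Idx F) d) : g'⁻¹ * g ∈ Um F (m + 1) := by
  have := (h'.inv uGoodE6 hm).mul uGoodE6 hm h
  rw [neg_add_cancel, ← Subgroup.coe_inv, ← Subgroup.coe_mul] at this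
  exact next_of_vec this

theorem exists_vec' {m : ℤ} (hm : 1 ≤ m) {g : Gp F} (hg : g ∈ Um F m) :
    ∃ d, Vec m (g : GL chevE6.Idx F) d := exists_vec uGoodE6 hm hg

theorem frule (a b x : Gp F) : a * b * x * (a * b)⁻¹ = a * (b * x * b⁻¹) * a⁻¹ := by group

namespace Cq

variable [Fintype F] (C : Cq F)

theorem phi_G1 {g : Gp F} (hg : g ∈ C.G1) : C.phi g ∈ C.G1 := by
  have hle : C.G1 ≤ C.G1.comap C.phi := by
    refine (Subgroup.closure_le _).2 ?_
    rintro _ ⟨w, hw, rfl⟩
    show C.phi _ ∈ C.G1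
    have key : ∀ v : List (ℕ × F), (∀ p ∈ v, p.1 < chevE6.nroots) →
        C.phi (wv MT (relsOfCommGood ChevCore.commGoodE6 F) v) =
        wv MT (relsOfCommGood ChevCore.commGoodE6 F) (v.map fun p => (p.1, p.2 ^ C.q)) := by
      intro v
      induction v with
      | nil => intro _; simp [wv]
      | cons p v ih =>
        intro hv
        have ih := ih fun z hz => hv z (List.mem_cons_of_mem _ hz)
        simp only [wv, List.map_cons, List.prod_cons, map_mul] at ih ⊢
        rw [ih]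
        congr 1
        refine Model.mat_inj ?_
        rw [mat_frobG, IsoHyp.mat_xN, IsoHyp.mat_xN]
        exact map_xg C.fr ChevCore.commGoodE6 (hv p (List.mem_cons_self ..)) p.2
    have hlt : ∀ z ∈ w, z.1 < chevE6.nroots := by
      rcases hw with ⟨t, -, r, hr, rfl⟩ | ⟨t, rs, hr, rfl⟩
      · intro z hz
        simp only [List.mem_singleton] at hz
        subst hz
        show r < chevE6.nroots
        revert r
        decide +kernel
      · intro z hz
        simp only [List.mem_cons, List.not_mem_nil, or_false] at hz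
        rcases hz with rfl | rfl
        · show rs.1 < chevE6.nroots
          revert rs; decide +kernel
        · show rs.2 < chevE6.nroots
          revert rs; decide +kernel
    rw [key w hlt]
    refine wv_mem ?_
    rcases hw with ⟨t, ht, r, hr, rfl⟩ | ⟨t, rs, hr, rfl⟩
    · exact Or.inl ⟨t ^ C.q, by rw [ht, ht], r, hr, rfl⟩
    · exact Or.inr ⟨t ^ C.q, rs, hr, rfl⟩
  exact hle hg

theorem pow_sub' (a b : F) : (a - b) ^ C.q = a ^ C.q - b ^ C.q := by
  rw [← C.fr_apply, map_sub, C.fr_apply, C.fr_apply]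

theorem pow_int (z : ℤ) : (z : F) ^ C.q = (z : F) := by rw [← C.fr_apply, map_intCast]

theorem pm_pow {ε : F} (h : ε = 1 ∨ ε = -1) : ε ^ C.q = ε := by
  rcases h with rfl | rfl
  · exact one_pow _
  · rw [← C.fr_apply, map_neg, map_one]

theorem ef_pow (r : Ix) : (PP.ef r.val : F) ^ C.q = PP.ef r.val := C.pow_int _

/-- the second parameter at a moved root is determined by the first -/
theorem pair_uniq {r : Ix} (hr : fd.O.rho r ≠ r) {t w w' : F}
    (h : X r t * X (fd.O.rho r) w ∈ C.G1) (h' : X r t * X (fd.O.rho r) w' ∈ C.G1) : w = w' := by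
  have h2 := mul_mem (inv_mem h) h'
  rw [_root_.mul_inv_rev, mul_assoc, inv_mul_cancel_left, ← (R0 F).x_neg, ← (R0 F).x_add] at h2
  have := C.x_zero_of_moved (r := fd.O.rho r) (by rw [rho_rho]; exact Ne.symm hr) h2
  rwa [neg_add_eq_zero] at this

theorem vec_single_fixed {r : Ix} (hr : fd.O.rho r = r) {m : ℤ} (hm : 1 ≤ m) {g : Gp F}
    (hg : g ∈ C.G1) {d : ℕ → F} (h : Vec m (g : GL chevE6.Idx F) d) : d r.val ^ C.q = d r.val := by
  have h1 := C.vec_fixed hm hg h r
  obtain ⟨h2, -, -, -, -, h3⟩ := rn_facts r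
  rw [hr] at h2
  rw [← h2, h3 h2.symm, Int.cast_one, one_mul] at h1
  exact h1.symm

/-- a rational layer is cleared by a rational point -/
theorem clear {m : ℤ} (hm : 1 ≤ m) {u : Gp F} (hu : u ∈ C.G1) {d : ℕ → F}
    (h : Vec m (u : GL chevE6.Idx F) d) (hd : ∀ r : Ix, d r.val ^ C.q = d r.val) :
    ∃ y ∈ C.M, y ∈ Um F m ∧ y⁻¹ * u ∈ Um F (m + 1) := by
  classical
  suffices ∀ (n : ℕ) (u : Gp F) (d : ℕ → F), u ∈ C.G1 → Vec m (u : GL chevE6.Idx F) d →
      (∀ r : Ix, d r.val ^ C.q = d r.val) → (Finset.univ.filter fun r : Ix => d r.val ≠ 0).card = n →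
      ∃ y ∈ C.M, y ∈ Um F m ∧ y⁻¹ * u ∈ Um F (m + 1) from this _ u d hu h hd rfl
  intro n
  induction n using Nat.strong_induction_on with
  | _ n IH =>
    intro u d hu h hd hn
    by_cases h0 : ∀ r : Ix, d r.val = 0
    · have : d = fun _ => 0 := funext fun r => by
        by_contra hne
        exact hne (h0 ⟨r, (h.1 r hne).1⟩)
      subst this
      exact ⟨1, one_mem _, one_mem _, by simpa using next_of_vec h⟩
    push Not at h0
    obtain ⟨r, hr0⟩ := h0
    have hrm : ht chevE6 r.val = m := (h.1 r.val hr0).2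
    obtain ⟨hρ, -, -, -, -, -⟩ := rn_facts r
    obtain ⟨y, hyM, e, hye, her, hesupp⟩ : ∃ y ∈ C.M, ∃ e : ℕ → F, Vec m (y : GL chevE6.Idx F) e ∧
        e r.val = d r.val ∧ ∀ s : Ix, e s.val ≠ 0 → e s.val = d s.val := by
      by_cases hr : fd.O.rho r = r
      · refine ⟨_, C.single_mem hr (hd r), _, vec_X hm hrm _, by simp, fun s hs => ?_⟩
        by_cases hs' : s.val = r.val
        · simp [hs']
        · simp [Pi.single_eq_of_ne hs'] at hs
      · obtain ⟨w, hw, hwq, -⟩ := C.pair_mem hr (d r.val)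
        have hne : (fd.O.rho r).val ≠ r.val := fun e => hr (Fin.ext e)
        have hρm : ht chevE6 (fd.O.rho r).val = m := by rw [hρ, ht_rn, hrm]
        have hv := vec_X_mul hm hrm hρm (d r.val) w
        refine ⟨_, C.mem_M.2 ⟨hw, by rw [map_mul, C.phi_X, C.phi_X, hd r, hwq (hd r)]⟩, _, hv,
          by simp [Pi.single_eq_of_ne (Ne.symm hne)], fun s hs => ?_⟩
        have hw' := C.vec_fixed hm hw hv r
        rw [← hρ] at hw'
        simp only [Pi.add_apply, Pi.single_eq_same, Pi.single_eq_of_ne hne,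
          Pi.single_eq_of_ne (Ne.symm hne), zero_add, add_zero] at hw'
        by_cases hs1 : s.val = r.val
        · simp [hs1, Pi.single_eq_of_ne (Ne.symm hne)]
        by_cases hs2 : s.val = (fd.O.rho r).val
        · have := C.vec_fixed hm hu h r
          rw [← hρ] at this
          simp [hs2, Pi.single_eq_of_ne hne, hw', this]
        simp [Pi.single_eq_of_ne hs1, Pi.single_eq_of_ne hs2] at hs
    have hv' : Vec m ((y⁻¹ * u : Gp F) : GL chevE6.Idx F) (-e + d) := by
      rw [Subgroup.coe_mul, Subgroup.coe_inv]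
      exact (hye.inv uGoodE6 hm).mul uGoodE6 hm h
    have hcases : ∀ s : Ix, (-e + d) s.val = 0 ∨ (-e + d) s.val = d s.val := fun s => by
      by_cases hs : e s.val = 0
      · right; simp [hs]
      · left; simp [hesupp s hs]
    have hd' : ∀ s : Ix, (-e + d) s.val ^ C.q = (-e + d) s.val := fun s => by
      rcases hcases s with h1 | h1 <;> rw [h1]
      · exact zero_pow C.hq.ne_zero
      · exact hd s
    have hlt : (Finset.univ.filter fun s : Ix => (-e + d) s.val ≠ 0).card < n := by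
      rw [← hn]
      refine Finset.card_lt_card ((Finset.ssubset_iff_of_subset fun s hs => ?_).2 ⟨r, ?_, ?_⟩)
      · simp only [Finset.mem_filter, Finset.mem_univ, true_and] at hs ⊢
        rcases hcases s with h1 | h1
        · exact absurd h1 hs
        · rwa [h1] at hs
      · simpa using hr0
      · simp [her]
    obtain ⟨y', hy'M, hy'U, hrest⟩ := IH _ hlt (y⁻¹ * u) _
      (mul_mem (inv_mem (C.mem_M.1 hyM).1) hu) hv' hd' rfl
    exact ⟨y * y', mul_mem hyM hy'M, mul_mem (hye.mem uGoodE6) hy'U, by simpa [mul_assoc] using hrest⟩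

/-- from height nine on every point is rational -/
theorem high_mem_M {u : Gp F} (hu : u ∈ C.G1) (h : u ∈ Um F 9) : u ∈ C.M := by
  suffices ∀ (n : ℕ) (m : ℤ) (u : Gp F), 9 ≤ m → 12 ≤ m + n → u ∈ C.G1 → u ∈ Um F m → u ∈ C.M from
    this 3 9 u le_rfl (by norm_num) hu h
  intro n
  induction n with
  | zero =>
    intro m u hm hm' _ hu
    rw [Um_top (Um_mono (by simpa using hm') hu)]
    exact one_mem _
  | succ n ih =>
    intro m u hm hm' hu hum
    obtain ⟨d, hd⟩ := exists_vec' (by omega) hum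
    obtain ⟨y, hy, -, hrest⟩ := C.clear (by omega) hu hd fun r => by
      by_cases h0 : d r.val = 0
      · rw [h0, zero_pow C.hq.ne_zero]
      · exact C.vec_single_fixed (high_single r (by rw [(hd.1 r.val h0).2]; exact hm)) (by omega) hu hd
    have := ih (m + 1) _ (by omega) (by push_cast at hm'; omega)
      (mul_mem (inv_mem (C.mem_M.1 hy).1) hu) hrest
    simpa using mul_mem hy this

/-- the hypotheses on a subgroup -/
structure Mid (C : Cq F) (H : Subgroup (Gp F)) : Prop where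
  le : C.M ≤ H
  le1 : H ≤ C.G1

variable {C} {H : Subgroup (Gp F)} (hH : Mid C H)
include hH

theorem Mid.nW_conj_mem (W : List (Fin 4)) {g : Gp F} (hg : g ∈ H) :
    C.dat.nW W * g * (C.dat.nW W)⁻¹ ∈ H :=
  mul_mem (mul_mem (hH.le (C.nW_mem_M W)) hg) (inv_mem (hH.le (C.nW_mem_M W)))

theorem Mid.nW_conj_mem' (W : List (Fin 4)) {g : Gp F} (hg : g ∈ H) :
    (C.dat.nW W)⁻¹ * g * C.dat.nW W ∈ H :=
  mul_mem (mul_mem (inv_mem (hH.le (C.nW_mem_M W))) hg) (hH.le (C.nW_mem_M W))

/-- one irrational element at a moved root gives the whole twisted group -/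
theorem Mid.all_of_pair {t w : F} (ht : t ^ C.q ≠ t)
    (hy : X (66 : Ix) t * X (fd.O.rho 66) w ∈ H) : H = C.G1 := by
  set P : F → Prop := fun a => ∃ b, X (42 : Ix) a * X (37 : Ix) b ∈ H with hP
  have h3742 : ∀ a b : F, Commute (X (37 : Ix) a : Gp F) (X (42 : Ix) b) := fun a b =>
    C.Z.commute_x (by decide +kernel) a b
  have hρ42 : fd.O.rho (42 : Ix) = 37 := by decide
  have h42 : fd.O.rho (42 : Ix) ≠ 42 := by decide
  have hadd : ∀ a a', P a → P a' → P (a + a') := by
    rintro a a' ⟨b, hb⟩ ⟨b', hb'⟩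
    refine ⟨b + b', ?_⟩
    have := mul_mem hb hb'
    have e1 : X (42 : Ix) (a + a') = X (42 : Ix) a * X (42 : Ix) a' := (R0 F).x_add _ _ _
    have e2 : X (37 : Ix) (b + b') = X (37 : Ix) b * X (37 : Ix) b' := (R0 F).x_add _ _ _
    rw [e1, e2]
    refine (?_ : X (42 : Ix) a * X (37 : Ix) b * (X (42 : Ix) a' * X (37 : Ix) b') =
      X (42 : Ix) a * X (42 : Ix) a' * (X (37 : Ix) b * X (37 : Ix) b')) ▸ this
    rw [mul_assoc, ← mul_assoc (X (37 : Ix) b), (h3742 b a').eq]
    group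
  have hscale : ∀ a c, P a → c ≠ 0 → c ^ C.q = c → P (c * a) := by
    rintro a c ⟨b, hb⟩ hc0 hcq
    have hh : (R0 F).hr (39 : Ix) c⁻¹ ∈ H := by
      refine hH.le ?_
      have h1 : ∀ e : F, e ^ C.q = e → (R0 F).x (39 : Ix) e ∈ C.M := fun e he =>
        C.single_mem (by decide) he
      have h2 : ∀ e : F, e ^ C.q = e → (R0 F).x ((MT.S).neg (39 : Ix)) e ∈ C.M := fun e he =>
        C.single_mem (by decide) he
      have h3 : ∀ e : F, e ^ C.q = e → (R0 F).nr (39 : Ix) e ∈ C.M := fun e he =>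
        mul_mem (mul_mem (h1 e he) (h2 _ (by rw [← C.fr_apply, map_neg, map_inv₀, C.fr_apply, he])))
          (h1 e he)
      exact mul_mem (h3 _ (by rw [inv_pow, hcq])) (h3 _ (C.pm_pow (Or.inr rfl)))
    have := mul_mem (mul_mem hh hb) (inv_mem hh)
    refine ⟨c * b, ?_⟩
    have e : (R0 F).hr (39 : Ix) c⁻¹ * (X (42 : Ix) a * X (37 : Ix) b) * ((R0 F).hr (39 : Ix) c⁻¹)⁻¹ =
        ((R0 F).hr (39 : Ix) c⁻¹ * X (42 : Ix) a * ((R0 F).hr (39 : Ix) c⁻¹)⁻¹) *
        ((R0 F).hr (39 : Ix) c⁻¹ * X (37 : Ix) b * ((R0 F).hr (39 : Ix) c⁻¹)⁻¹) := by group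
    rw [e, C.Z.hr_conj _ _ _ (inv_ne_zero hc0), C.Z.hr_conj _ _ _ (inv_ne_zero hc0),
      show chevE6.pairing (39 : Ix).val (42 : Ix).val = -1 by decide +kernel,
      show chevE6.pairing (39 : Ix).val (37 : Ix).val = -1 by decide +kernel,
      zpow_neg_one, inv_inv] at this
    exact this
  obtain ⟨W, hW⟩ := exists_word (reach_pair (66 : Ix) (by decide))
  obtain ⟨c, hc, hcq, he⟩ := C.nW_conj W 42
  obtain ⟨c', hc', -, he'⟩ := C.nW_conj W 37
  have h0 : P (t / c) := by
    refine ⟨w / c', ?_⟩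
    have := hH.nW_conj_mem' W hy
    have e1 := he (t / c)
    have e2 := he' (w / c')
    rw [hW, mul_div_cancel₀ t hc] at e1
    rw [← hρ42, C.actw_rho, hW, mul_div_cancel₀ w hc'] at e2
    rw [← e1, ← e2, hρ42] at this
    simpa [mul_assoc] using this
  have ht0 : (t / c) ^ C.q ≠ t / c := by
    rw [div_pow, hcq]
    intro h
    exact ht ((div_left_inj' hc).1 h)
  have h1 : P 1 := by
    obtain ⟨b, hb, hbq, -⟩ := C.pair_mem h42 (1 : F)
    rw [hρ42] at hb
    refine ⟨b, hH.le (C.mem_M.2 ⟨hb, ?_⟩)⟩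
    rw [map_mul, C.phi_X, C.phi_X, one_pow, hbq (one_pow _)]
  have hP0 : P 0 := ⟨0, by rw [cX_zero, cX_zero, one_mul]; exact one_mem _⟩
  have hall : ∀ a, P a := by
    intro a
    set t0 := t / c
    set b := (a ^ C.q - a) / (t0 ^ C.q - t0) with hb
    have hne : t0 ^ C.q - t0 ≠ 0 := sub_ne_zero.2 ht0
    have hbq : b ^ C.q = b := by
      rw [hb, div_pow, C.pow_sub', C.pow_sub', C.per, C.per, ← neg_sub (a ^ C.q) a,
        ← neg_sub (t0 ^ C.q) t0, neg_div_neg_eq]
    have hu : (a - b * t0) ^ C.q = a - b * t0 := by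
      rw [C.pow_sub', mul_pow, hbq]
      have : b * (t0 ^ C.q - t0) = a ^ C.q - a := div_mul_cancel₀ _ hne
      linear_combination -this
    have hmul : ∀ e x, P x → e ^ C.q = e → P (e * x) := fun e x hx he => by
      by_cases h : e = 0
      · rwa [h, zero_mul]
      · exact hscale x e hx h he
    have := hadd _ _ (hmul (a - b * t0) 1 h1 hu) (hmul b t0 h0 hbq)
    simpa using this
  have hpair : ∀ r : Ix, fd.O.rho r ≠ r → ∀ a b, X r a * X (fd.O.rho r) b ∈ C.G1 →
      X r a * X (fd.O.rho r) b ∈ H := by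
    intro r hr a b hb
    obtain ⟨W, hW⟩ := exists_word (reach_pair r hr)
    obtain ⟨c, hc, -, he⟩ := C.nW_conj W 42
    obtain ⟨c', -, -, he'⟩ := C.nW_conj W 37
    obtain ⟨b0, hb0⟩ := hall (a / c)
    have := hH.nW_conj_mem W hb0
    have e : C.dat.nW W * (X (42 : Ix) (a / c) * X (37 : Ix) b0) * (C.dat.nW W)⁻¹ =
        (C.dat.nW W * X (42 : Ix) (a / c) * (C.dat.nW W)⁻¹) *
        (C.dat.nW W * X (37 : Ix) b0 * (C.dat.nW W)⁻¹) := by group
    rw [e, he, he', hW, mul_div_cancel₀ a hc, ← hρ42, C.actw_rho, hW] at this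
    rwa [C.pair_uniq hr hb (hH.le1 this)]
  refine le_antisymm hH.le1 ((Subgroup.closure_le _).2 ?_)
  rintro _ ⟨v, hv, rfl⟩
  rcases hv with ⟨a, ha, r, hr, rfl⟩ | ⟨a, rs, hr, rfl⟩
  · obtain ⟨r', hr', rfl⟩ : ∃ r' ∈ ones, r'.val = r := by
      simp only [List.mem_cons, List.not_mem_nil, or_false] at hr
      rcases hr with rfl | rfl | rfl | rfl
      exacts [⟨46, by decide, rfl⟩, ⟨25, by decide, rfl⟩, ⟨39, by decide, rfl⟩, ⟨32, by decide, rfl⟩]
    rw [C.Z.wv_cons]
    simpa [wv] using hH.le (C.single_mem (ones_rho r' hr') ha)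
  · obtain ⟨p, hp, rfl⟩ : ∃ p ∈ pairs, (p.1.val, p.2.val) = rs := by
      simp only [List.mem_cons, List.not_mem_nil, or_false] at hr
      rcases hr with rfl | rfl | rfl | rfl
      exacts [⟨(56, 36), by decide, rfl⟩, ⟨(15, 35), by decide, rfl⟩, ⟨(42, 37), by decide, rfl⟩,
        ⟨(29, 34), by decide, rfl⟩]
    obtain ⟨e1, -, hne⟩ := pairs_rho p hp
    have hg := pair_mem_G C.Z hp a
    rw [wv_pair C.Z hp]
    have e : prodX MT (relsOfCommGood ChevCore.commGoodE6 F) [p.1, p.2] (duo C.q p.1 a) =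
        X p.1 a * X p.2 (a ^ C.q) := by simp [prodX, duo, hne]
    rw [e] at hg ⊢
    rw [← e1] at hg ⊢
    exact hpair p.1 (by rw [e1]; exact hne) a _ hg

/-- some element of `H ∩ U_m` has an irrational leading coordinate -/
def Bad (C : Cq F) (H : Subgroup (Gp F)) (m : ℤ) : Prop :=
  ∃ u ∈ H, ∃ d, Vec m (u : GL chevE6.Idx F) d ∧ ∃ r : Ix, d r.val ^ C.q ≠ d r.val

theorem Mid.climb {m : ℤ} (hm : 1 ≤ m) (hm' : m ≤ 7) (h : Bad C H m) : Bad C H (m + 1) := by
  obtain ⟨u, hu, d, hd, r, hr⟩ := h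
  have hr0 : d r.val ≠ 0 := fun e => hr (by rw [e, zero_pow C.hq.ne_zero])
  have hrm : ht chevE6 r.val = m := (hd.1 r.val hr0).2
  have hmoved : fd.O.rho r ≠ r := fun e => hr (C.vec_single_fixed e hm (hH.le1 hu) hd)
  obtain ⟨k, a, ha, T, hsum, -, har, huniq, hL⟩ := climb_cert r hmoved (by omega) (by omega)
  obtain ⟨hnd, hht⟩ := orth_facts k
  obtain ⟨γ, hγ, hterms⟩ : ∃ γ : ℤ, (γ = 1 ∨ γ = -1) ∧ chevE6.commTerms r.val a.val = [(T.val, γ, 1, 1)] := by
    rcases hL with h | h
    exacts [⟨1, Or.inl rfl, h⟩, ⟨-1, Or.inr rfl, h⟩]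
  have hG := uGoodE6.toCommGood.toGood
  have hTht : ht chevE6 T.val = m + 1 := by
    have := hG.commTerms_ht r.isLt a.isLt (c := (T.val, γ, 1, 1))
      (show (T.val, γ, 1, 1) ∈ chevE6.commTerms r.val a.val by rw [hterms]; simp)
    simpa [hrm, hht a ha] using this
  have key : ∀ L : List Ix, L.Nodup → (∀ x ∈ L, x ∈ fd.orth k) →
      ∃ e, Vec (m + 1) ((u * (L.map fun x => X x (1 : F)).prod * u⁻¹ *
        ((L.map fun x => X x (1 : F)).prod)⁻¹ : Gp F) : GL chevE6.Idx F) e ∧
        e T.val = if a ∈ L then (γ : F) * d r.val else 0 := by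
    intro L
    induction L with
    | nil =>
      intro _ _
      exact ⟨fun _ => 0, by simpa using vec_of_next uGoodE6 (one_mem _), by simp⟩
    | cons x L ih =>
      intro hnd hsub
      rw [List.nodup_cons] at hnd
      obtain ⟨e, he, heT⟩ := ih hnd.2 fun z hz => hsub z (List.mem_cons_of_mem _ hz)
      have hxk := hsub x (List.mem_cons_self ..)
      have hx1 : ht chevE6 x.val = 1 := hht x hxk
      obtain ⟨d', e', hd', he', hw⟩ := lead_comm' uGoodE6 hm (w := T.val)
        (γ := if x = a then γ else 0) r.isLt hrm x.isLt hx1.ge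
        (fun q hq hqm hqr => by
          obtain ⟨j, hj⟩ := huniq x hxk ⟨q, hq⟩ (by show ht chevE6 q = _; rw [hqm, hrm])
            (Or.inl fun e => hqr (congrArg Fin.val e))
          exact ⟨j.val, j.isLt, hj⟩)
        (by
          by_cases hxa : x = a
          · subst hxa
            rw [if_pos rfl]
            exact Or.inl ⟨fun e => har (Fin.ext e), hterms⟩
          · rw [if_neg hxa]
            obtain ⟨j, hj⟩ := huniq x hxk r rfl (Or.inr hxa)
            exact Or.inr ⟨rfl, j.val, j.isLt, hj⟩)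
        (hd.mem uGoodE6) (1 : F)
      rw [hx1] at he' hw
      have hdd := hd'.unique uGoodE6 hm hd
      subst hdd
      refine ⟨e' + e, ?_, ?_⟩
      · have h2 := he'.mul uGoodE6 (by omega) (he.conj uGoodE6 (by omega)
          (g := xg chevE6 F x.val 1) (xg_mem_XS x.isLt (show 1 ≤ ht chevE6 x.val by omega) 1))
        rw [← val_X] at h2
        simp only [← Subgroup.coe_inv, ← Subgroup.coe_mul] at h2
        refine (?_ : u * X x 1 * u⁻¹ * (X x 1)⁻¹ *
          (X x 1 * (u * (L.map fun z => X z (1 : F)).prod * u⁻¹ * ((L.map fun z => X z (1 : F)).prod)⁻¹) *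
            (X x 1)⁻¹) = u * ((x :: L).map fun z => X z (1 : F)).prod * u⁻¹ *
              (((x :: L).map fun z => X z (1 : F)).prod)⁻¹) ▸ h2
        simp only [List.map_cons, List.prod_cons]
        group
      · rw [Pi.add_apply, hw hTht, heT]
        by_cases hxa : x = a
        · subst hxa
          simp [hnd.1]
        · simp [hxa, Ne.symm hxa]
  obtain ⟨e, he, heT⟩ := key _ hnd fun _ h => h
  rw [if_pos ha] at heT
  refine ⟨_, ?_, e, he, T, ?_⟩
  · have hog : ((fd.orth k).map fun x => X x (1 : F)).prod ∈ H := hH.le (C.og_mem_M k)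
    exact mul_mem (mul_mem (mul_mem hu hog) (inv_mem hu)) (inv_mem hog)
  · rw [heT, mul_pow, C.pow_int]
    intro h
    have hγ0 : (γ : F) ≠ 0 := by rcases hγ with rfl | rfl <;> simp
    exact hr (mul_left_cancel₀ hγ0 h)

theorem Mid.not_bad (hne : H ≠ C.G1) : ∀ {m : ℤ}, 1 ≤ m → ¬ Bad C H m := by
  have h8 : ¬ Bad C H 8 := by
    rintro ⟨u, hu, d, hd, r, hr⟩
    have hr0 : d r.val ≠ 0 := fun e => hr (by rw [e, zero_pow C.hq.ne_zero])
    obtain ⟨a, b, hab, hne', hma, hρ, hcases⟩ : ∃ a b : Ix, fd.O.rho a = b ∧ b.val ≠ a.val ∧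
        a = 66 ∧ b.val = rn a.val ∧ ∀ s : Ix, ht chevE6 s.val = 8 → s = a ∨ s = b :=
      ⟨66, 68, by decide, by decide, rfl, by decide +kernel, top_pair⟩
    have hm66 : ht chevE6 a.val = 8 := by rw [hma]; decide +kernel
    have hm68 : ht chevE6 b.val = 8 := by rw [hρ, ht_rn, hm66]
    have he68 := C.vec_fixed (by norm_num : (1 : ℤ) ≤ 8) (hH.le1 hu) hd a
    rw [← hρ] at he68
    have hirr : d a.val ^ C.q ≠ d a.val := by
      rcases hcases r (hd.1 r.val hr0).2 with rfl | rfl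
      · exact hr
      · intro hq
        apply hr
        rw [he68, mul_pow, C.per, C.ef_pow, hq]
    have hmov : fd.O.rho a ≠ a := fun e => hne' (by rw [← hab, e])
    obtain ⟨w, hw, -, -⟩ := C.pair_mem hmov (d a.val)
    rw [hab] at hw
    have hv := vec_X_mul (by norm_num : (1 : ℤ) ≤ 8) hm66 hm68 (d a.val) w
    have hwe := C.vec_fixed (by norm_num : (1 : ℤ) ≤ 8) hw hv a
    rw [← hρ] at hwe
    simp only [Pi.add_apply, Pi.single_eq_same, Pi.single_eq_of_ne hne',
      Pi.single_eq_of_ne (Ne.symm hne'), zero_add, add_zero] at hwe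
    have e : Pi.single a.val (d a.val) + Pi.single b.val w = d := by
      funext s
      by_cases h1 : s = a.val
      · subst h1
        simp [Pi.single_eq_of_ne (Ne.symm hne')]
      by_cases h2 : s = b.val
      · subst h2
        simp [Pi.single_eq_of_ne h1, hwe, he68]
      rw [Pi.add_apply, Pi.single_eq_of_ne h1, Pi.single_eq_of_ne h2, add_zero]
      by_contra h0
      obtain ⟨hs, hs8⟩ := hd.1 s (Ne.symm h0)
      rcases hcases ⟨s, hs⟩ hs8 with e | e
      exacts [h1 (congrArg Fin.val e), h2 (congrArg Fin.val e)]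
    rw [e] at hv
    have h9' := eq_next (by norm_num) hd hv
    rw [show (8 : ℤ) + 1 = 9 by norm_num] at h9'
    have hrest := C.high_mem_M (mul_mem (inv_mem hw) (hH.le1 hu)) h9'
    have hy := mul_mem hu (inv_mem (hH.le hrest))
    rw [_root_.mul_inv_rev, inv_inv, mul_inv_cancel_left] at hy
    subst hma
    rw [← hab] at hy
    exact hne (hH.all_of_pair hirr hy)
  intro m hm hb
  by_cases h9 : 9 ≤ m
  · obtain ⟨u, hu, d, hd, r, hr⟩ := hb
    have hr0 : d r.val ≠ 0 := fun e => hr (by rw [e, zero_pow C.hq.ne_zero])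
    exact hr (C.vec_single_fixed (high_single r (by rw [(hd.1 r.val hr0).2]; exact h9)) hm (hH.le1 hu) hd)
  have key : ∀ n : ℕ, m + n ≤ 8 → Bad C H (m + n) := by
    intro n
    induction n with
    | zero => intro _; simpa using hb
    | succ n ih =>
      intro hn
      push_cast at hn ⊢
      rw [← add_assoc]
      exact hH.climb (by omega) (by omega) (ih (by omega))
  obtain ⟨n, hn⟩ : ∃ n : ℕ, m + n = 8 := ⟨(8 - m).toNat, by omega⟩
  exact h8 (hn ▸ key n hn.le)

theorem Mid.U_le_M (hne : H ≠ C.G1) {u : Gp F} (hu : u ∈ H) (hU : u ∈ (R0 F).U) : u ∈ C.M := by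
  rw [U_eq] at hU
  suffices ∀ (n : ℕ) (m : ℤ) (u : Gp F), 1 ≤ m → 12 ≤ m + n → u ∈ H → u ∈ Um F m → u ∈ C.M from
    this 11 1 u le_rfl (by norm_num) hu hU
  intro n
  induction n with
  | zero =>
    intro m u hm hm' _ hu
    rw [Um_top (Um_mono (by simpa using hm') hu)]
    exact one_mem _
  | succ n ih =>
    intro m u hm hm' hu hum
    obtain ⟨d, hd⟩ := exists_vec' hm hum
    have hrat : ∀ r : Ix, d r.val ^ C.q = d r.val := by
      intro r
      by_contra hr
      exact hH.not_bad hne hm ⟨u, hu, d, hd, r, hr⟩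
    obtain ⟨y, hy, -, hrest⟩ := C.clear hm (hH.le1 hu) hd hrat
    have := ih (m + 1) _ (by omega) (by push_cast at hm'; omega)
      (mul_mem (inv_mem (hH.le hy)) hu) hrest
    simpa using mul_mem hy this

end Cq

end Cfsg.Agent.E6Sub
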