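import Cfsg.Agent.Chev54.SubCtx

/-!
Layers of the unipotent group of a Chevalley group: upward closed sets of positive roots are normalised
modulo the next layer, and the leading coordinate of a commutator of an element with a root element.
-/

set_option autoImplicit false

namespace Cfsg.Agent.E6Sub

open Cfsg.Lie Cfsg.Agent.ChevCore Cfsg.Agent.Chev54

variable {D : ChevalleyDatum} {F : Type*} [Field F]

/-- `P` is kept by adding positive roots -/
def UpSet (D : ChevalleyDatum) (P : ℕ → Prop) : Prop :=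
  ∀ r s, r < D.nroots → s < D.nroots → 1 ≤ ht D r → P s → s ≠ D.neg r ∧
    ∀ c ∈ commW (std D) r s, P c.1

/-- the roots in `P` of height at least `m` -/
def cut (D : ChevalleyDatum) (P : ℕ → Prop) (m : ℤ) : Set ℕ := {s | m ≤ ht D s ∧ P s}

section

variable (hU : UGood D)
include hU

/-- `x_r(t)` normalises a cut -/
theorem xg_norm_cut {P : ℕ → Prop} (hP : UpSet D P) {m : ℤ} (hm : 1 ≤ m) {r : ℕ}
    (hr : r < D.nroots) (hr1 : 1 ≤ ht D r) (t : F) :
    xg D F r t ∈ Subgroup.normalizer (XS D F (cut D P m) : Set (GL D.Idx F)) := by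
  refine hU.toCommGood.xg_mem_normalizer hr (fun s hs hsS => ?_) t
  obtain ⟨h1, h2⟩ := hP r s hr hs hr1 hsS.2
  refine ⟨h1, fun _ c hc => ⟨?_, h2 c hc⟩⟩
  obtain ⟨-, h3⟩ := hU.htGe_closed hm hr hs hr1 hsS.1
  have := h3 c hc
  change m + 1 ≤ ht D c.1 at this
  omega

theorem norm_cut {P : ℕ → Prop} (hP : UpSet D P) {m : ℤ} (hm : 1 ≤ m) {g y : GL D.Idx F}
    (hg : g ∈ XS D F (htGe D 1)) (hy : y ∈ XS D F (cut D P m)) :
    g * y * g⁻¹ ∈ XS D F (cut D P m) :=
  (Subgroup.mem_normalizer_iff.1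
    ((XS_le fun _ t hr hr1 => xg_norm_cut hU hP hm hr hr1 t :
      XS D F (htGe D 1) ≤ Subgroup.normalizer (XS D F (cut D P m) : Set (GL D.Idx F))) hg) y).1 hy

/-- conjugation by `U` is trivial on a cut modulo the next one -/
theorem comm_cut {P : ℕ → Prop} (hP : UpSet D P) {m : ℤ} (hm : 1 ≤ m) {g y : GL D.Idx F}
    (hg : g ∈ XS D F (htGe D 1)) (hy : y ∈ XS D F (cut D P m)) :
    g * y * g⁻¹ * y⁻¹ ∈ XS D F (cut D P (m + 1)) := by
  have hle : XS D F (cut D P m) ≤ XS D F (htGe D 1) :=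
    XS_mono fun r hr => show 1 ≤ ht D r from le_trans hm hr.1
  have hn : ∀ {a z}, a ∈ XS D F (htGe D 1) → z ∈ XS D F (cut D P (m + 1)) →
      a * z * a⁻¹ ∈ XS D F (cut D P (m + 1)) := fun ha hz => norm_cut hU hP (by omega) ha hz
  induction hg using Subgroup.closure_induction'' generalizing y with
  | mem a ha =>
    obtain ⟨r, t, hr, hr1, rfl⟩ := ha
    exact gen r hr hr1 t y hy
  | inv_mem a ha =>
    obtain ⟨r, t, hr, hr1, rfl⟩ := ha
    rw [hU.toCommGood.toGood.xg_inv r t]
    exact gen r hr hr1 (-t) y hy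
  | one => simp
  | mul a b ha hb iha ihb =>
    refine (show a * (b * y * b⁻¹ * y⁻¹) * a⁻¹ * (a * y * a⁻¹ * y⁻¹) =
      a * b * y * (a * b)⁻¹ * y⁻¹ by group) ▸ mul_mem (hn ha (ihb hy)) (iha hy)
where
  gen (r : ℕ) (hr : r < D.nroots) (hr1 : 1 ≤ ht D r) (t : F) (y : GL D.Idx F)
      (hy : y ∈ XS D F (cut D P m)) :
      xg D F r t * y * (xg D F r t)⁻¹ * y⁻¹ ∈ XS D F (cut D P (m + 1)) := by
    have hG := hU.toCommGood.toGood
    have hle : XS D F (cut D P m) ≤ XS D F (htGe D 1) :=
      XS_mono fun r hr => show 1 ≤ ht D r from le_trans hm hr.1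
    have hn : ∀ {a z}, a ∈ XS D F (htGe D 1) → z ∈ XS D F (cut D P (m + 1)) →
        a * z * a⁻¹ ∈ XS D F (cut D P (m + 1)) := fun ha hz => norm_cut hU hP (by omega) ha hz
    induction hy using Subgroup.closure_induction with
    | mem y hy =>
      obtain ⟨s, u, hs, hsS, rfl⟩ := hy
      by_cases h1 : s = r
      · subst h1
        rw [hG.xg_inv, hG.xg_inv, ← hG.xg_add, ← hG.xg_add, ← hG.xg_add,
          show t + u + -t + -u = 0 by ring, hG.xg_zero]
        exact one_mem _
      obtain ⟨h2, h3⟩ := hP r s hr hs hr1 hsS.2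
      obtain ⟨-, h4⟩ := hU.htGe_closed hm hr hs hr1 hsS.1
      have hc := hU.toCommGood.xg_comm hr hs h1 h2 t u
      have hw : wordG D F (D.commWord F r s t u) ∈ XS D F (cut D P (m + 1)) := by
        refine list_prod_mem fun y hy => ?_
        obtain ⟨p, hp, rfl⟩ := List.mem_map.1 hy
        obtain ⟨c, hc, rfl⟩ := List.mem_map.1 hp
        exact xg_mem_XS (S := cut D P (m + 1)) (hG.commTerms_coef hr hs hc).1 ⟨h4 c hc, h3 c hc⟩ _
      have := hn (mul_mem (xg_mem_XS hs (show 1 ≤ ht D s from le_trans hm hsS.1) u)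
        (xg_mem_XS hr hr1 t)) (inv_mem hw)
      have e : xg D F r t * xg D F s u * (xg D F r t)⁻¹ * (xg D F s u)⁻¹ =
          xg D F s u * xg D F r t * (wordG D F (D.commWord F r s t u))⁻¹ *
            (xg D F s u * xg D F r t)⁻¹ := by
        rw [show xg D F r t * xg D F s u * (xg D F r t)⁻¹ * (xg D F s u)⁻¹ =
          xg D F r t * xg D F s u * (xg D F s u * xg D F r t)⁻¹ by group, hc]
        group
      rwa [e]
    | one => simp
    | mul u v hu hv hu' hv' =>
      refine (show xg D F r t * u * (xg D F r t)⁻¹ * u⁻¹ *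
          (u * (xg D F r t * v * (xg D F r t)⁻¹ * v⁻¹) * u⁻¹) =
        xg D F r t * (u * v) * (xg D F r t)⁻¹ * (u * v)⁻¹ by group) ▸ mul_mem hu' (hn (hle hu) hv')
    | inv u hu hu' =>
      refine (show u⁻¹ * (xg D F r t * u * (xg D F r t)⁻¹ * u⁻¹)⁻¹ * u⁻¹⁻¹ =
        xg D F r t * u⁻¹ * (xg D F r t)⁻¹ * u⁻¹⁻¹ by group) ▸ hn (inv_mem (hle hu)) (inv_mem hu')

/-- the leading coordinate at `w` of the commutator of `y ∈ U_m` with `x_s(u)`: only the root `r` of
height `m` can contribute, with the constant `γ` -/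
theorem lead_comm' {m : ℤ} (hm : 1 ≤ m) {r s w : ℕ} {γ : ℤ} (hr : r < D.nroots) (hrm : ht D r = m)
    (hs : s < D.nroots) (hs1 : 1 ≤ ht D s)
    (huniq : ∀ q, q < D.nroots → ht D q = m → q ≠ r →
      ∃ j < D.rank, coef D w j ≠ coef D q j + coef D s j)
    (hL : (s ≠ r ∧ D.commTerms r s = [(w, γ, 1, 1)]) ∨
      (γ = 0 ∧ ∃ j < D.rank, coef D w j ≠ coef D r j + coef D s j))
    {y : GL D.Idx F} (hy : y ∈ XS D F (htGe D m)) (u : F) :
    ∃ d e, Vec m y d ∧ Vec (m + ht D s) (y * xg D F s u * y⁻¹ * (xg D F s u)⁻¹) e ∧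
      (ht D w = m + ht D s → e w = (γ : F) * d r * u) := by
  have hG := hU.toCommGood.toGood
  set x := xg D F s u
  have hle : XS D F (htGe D m) ≤ XS D F (htGe D 1) :=
    XS_mono fun q (hq : m ≤ ht D q) => show 1 ≤ ht D q by omega
  induction hy using Subgroup.closure_induction'' with
  | one =>
    exact ⟨fun _ => 0, fun _ => 0, vec_of_next hU (one_mem _),
      by simpa using vec_of_next hU (one_mem _), by simp⟩
  | mul a b ha hb iha ihb =>
    obtain ⟨d, e, hd, he, hew⟩ := iha
    obtain ⟨d', e', hd', he', hew'⟩ := ihb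
    refine ⟨d + d', e' + e, hd.mul hU hm hd', ?_, fun h => by
      simp only [Pi.add_apply, hew h, hew' h]; ring⟩
    refine (show a * (b * x * b⁻¹ * x⁻¹) * a⁻¹ * (a * x * a⁻¹ * x⁻¹) =
      a * b * x * (a * b)⁻¹ * x⁻¹ by group) ▸ Vec.mul hU (by omega) (he'.conj hU (by omega) ?_) he
    exact hle ha
  | mem y hy =>
    obtain ⟨q, t, hq, hqm, rfl⟩ := hy
    exact gen q hq hqm t
  | inv_mem y hy =>
    obtain ⟨q, t, hq, hqm, rfl⟩ := hy
    rw [hG.xg_inv]
    exact gen q hq hqm (-t)
where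
  gen (q : ℕ) (hq : q < D.nroots) (hqm : m ≤ ht D q) (t : F) :
      ∃ d e, Vec m (xg D F q t) d ∧
        Vec (m + ht D s) (xg D F q t * xg D F s u * (xg D F q t)⁻¹ * (xg D F s u)⁻¹) e ∧
        (ht D w = m + ht D s → e w = (γ : F) * d r * u) := by
    have hG := hU.toCommGood.toGood
    obtain ⟨d, hd, hdr⟩ : ∃ d, Vec m (xg D F q t) d ∧ d r = if q = r then t else 0 := by
      rcases eq_or_lt_of_le hqm with e | e
      · refine ⟨Pi.single q t, e ▸ vec_xg hU hq (by omega) t, ?_⟩
        by_cases hqr : q = r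
        · subst hqr; simp
        · simp [hqr, Ne.symm hqr]
      · refine ⟨fun _ => 0, vec_of_next hU (xg_mem_XS hq (show m + 1 ≤ ht D q by omega) t), ?_⟩
        rw [if_neg fun h => by rw [h] at e; omega]
    by_cases hqs : q = s
    · subst hqs
      refine ⟨d, fun _ => 0, hd, ?_, fun _ => ?_⟩
      · have e : xg D F q t * xg D F q u * (xg D F q t)⁻¹ * (xg D F q u)⁻¹ = 1 := by
          rw [← hG.xg_add, add_comm t u, hG.xg_add]; group
        rw [e]
        exact vec_of_next hU (one_mem _)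
      · rcases hL with ⟨h1, -⟩ | ⟨h1, -⟩
        · rw [hdr, if_neg h1, mul_zero, zero_mul]
        · simp [h1]
    · have hneg : s ≠ D.neg q := fun h => by
        rw [h, hG.ht_neg hq] at hs1; omega
      have hc := hU.toCommGood.xg_comm hq hs (Ne.symm hqs) hneg t u
      rw [ChevalleyDatum.commWord] at hc
      have hht : ∀ c ∈ D.commTerms q s, c.1 < D.nroots ∧ m + ht D s ≤ ht D c.1 := by
        intro c hc'
        obtain ⟨h1, h2, h3, -⟩ := hG.commTerms_coef hq hs hc'
        refine ⟨h1, ?_⟩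
        rw [hG.commTerms_ht hq hs hc']
        have : (1 : ℤ) ≤ c.2.2.1 := by exact_mod_cast h2
        have : (1 : ℤ) ≤ c.2.2.2 := by exact_mod_cast h3
        nlinarith
      obtain ⟨f, hf, hfw⟩ := Sub.vec_word hU (show 1 ≤ m + ht D s by omega) (w := w) t u _ hht
      have hxs : xg D F s u * xg D F q t ∈ XS D F (htGe D 1) :=
        mul_mem (xg_mem_XS hs hs1 _) (xg_mem_XS hq (show 1 ≤ ht D q by omega) t)
      have hwv := (hf.inv hU (by omega)).conj hU (by omega) hxs
      refine ⟨d, -f, hd, ?_, fun hwht => ?_⟩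
      · have e : xg D F q t * xg D F s u = xg D F s u * xg D F q t *
            (wordG D F ((D.commTerms q s).map fun c =>
              (c.1, (c.2.1 : F) * (-t) ^ c.2.2.1 * u ^ c.2.2.2)))⁻¹ := by
          rw [hc]; group
        rw [_root_.mul_inv_rev, ← mul_assoc] at hwv
        rwa [e]
      · rw [Pi.neg_apply, hfw hwht, hdr]
        have hno : ∀ c ∈ D.commTerms q s, c.1 = w → ht D q = m ∧
            ∀ j < D.rank, coef D w j = coef D q j + coef D s j := by
          intro c hc' hcw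
          obtain ⟨h1, h2, h3, h4⟩ := hG.commTerms_coef hq hs hc'
          have hh := hG.commTerms_ht hq hs hc'
          rw [hcw, hwht] at hh
          have a2 : (1 : ℤ) ≤ c.2.2.1 := by exact_mod_cast h2
          have a3 : (1 : ℤ) ≤ c.2.2.2 := by exact_mod_cast h3
          have b2 := mul_le_mul_of_nonneg_right a2 (show (0 : ℤ) ≤ ht D q by omega)
          have b3 := mul_le_mul_of_nonneg_right a3 (show (0 : ℤ) ≤ ht D s by omega)
          have e1 : (c.2.2.1 : ℤ) = 1 := by nlinarith
          have e2 : (c.2.2.2 : ℤ) = 1 := by nlinarith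
          refine ⟨by rw [e1, e2] at hh; omega, fun j hj => ?_⟩
          have := h4 j hj
          rw [hcw, e1, e2] at this
          omega
        by_cases hqr : q = r
        · subst hqr
          rw [if_pos rfl]
          rcases hL with ⟨-, h1⟩ | ⟨h1, j, hj, hj'⟩
          · rw [h1, List.filter_cons_of_pos (by simp), List.filter_nil]
            simp
          · rw [List.filter_eq_nil_iff.2 ?_]
            · simp [h1]
            intro c hc' hcw
            simp only [decide_eq_true_eq] at hcw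
            exact hj' ((hno c hc' hcw).2 j hj)
        · rw [if_neg hqr, mul_zero, zero_mul, List.filter_eq_nil_iff.2 ?_]
          · simp
          intro c hc' hcw
          simp only [decide_eq_true_eq] at hcw
          obtain ⟨h1, h2⟩ := hno c hc' hcw
          obtain ⟨j, hj, hj'⟩ := huniq q hq h1 hqr
          exact hj' (h2 j hj)

end

end Cfsg.Agent.E6Sub
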