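import Cfsg.Agent.E6Sub.Uniq

/-!
Long root elements of a proper intermediate subgroup that are conjugate in it to rational long root elements
are rational.
-/

set_option autoImplicit false
set_option maxRecDepth 4000

namespace Cfsg.Agent.E6Sub

open Cfsg.Lie Cfsg.Agent.ChevCore Cfsg.Agent.ChevGroup Cfsg.Agent.ChevIsogeny Cfsg.Agent.Chev54
open Cfsg.Agent.Twisted Cfsg.Agent.Twisted.TypeE6

variable {F : Type*} [Field F]

theorem neg_val : ∀ r : Ix, ((MT.S).neg r).val = chevE6.neg r.val := by decide +kernel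

theorem cls_two : ∀ k : Fin 4, ∀ a ∈ fd.O.cls k, ∀ b ∈ fd.O.cls k, b = a ∨ b = fd.O.rho a := by
  decide +kernel

theorem cls_ht : ∀ r : Ix, ∀ k : Fin 4, r ∈ fd.O.cls k → 1 ≤ ht chevE6 r.val := by decide +kernel

theorem top_facts : ht chevE6 (71 : Ix).val = 11 ∧ PQ (71 : Ix).val ∧ fd.O.rho (71 : Ix) = 71 ∧
    (MT.S).neg (71 : Ix) = 0 ∧ (MT.S).actw (fd.reflWord (71 : Ix)) 0 = 71 ∧
    coef chevE6 (71 : Ix).val 1 = 2 := by decide +kernel

theorem cX_mul_eq_one {r : Ix} {t : F} (h : X r t = 1) : t = 0 :=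
  x_param_inj MT (relsOfCommGood ChevCore.commGoodE6 F) (h.trans (cX_zero r).symm)

/-- the commutator of two root elements with one simple term -/
theorem comm_eq {r s w : Ix} {γ : ℤ} (h1 : s ≠ r) (h2 : (MT.S).neg r ≠ s)
    (hL : chevE6.commTerms r.val s.val = [(w.val, γ, 1, 1)]) (t u : F)
    (hcr : ∀ v : F, Commute (X r t : Gp F) (X w v)) (hcs : ∀ v : F, Commute (X s u : Gp F) (X w v)) :
    X r t * X s u * (X r t)⁻¹ * (X s u)⁻¹ = X w ((γ : F) * t * u) := by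
  have h := uGoodE6.toCommGood.xg_comm r.isLt s.isLt (fun e => h1 (Fin.ext e))
    (fun e => h2 (Fin.ext ((neg_val r).trans e.symm))) t u
  rw [ChevalleyDatum.commWord, hL] at h
  simp only [List.map_cons, List.map_nil, pow_one, wordG, List.prod_cons, List.prod_nil, mul_one,
    ← val_X] at h
  rw [← Subgroup.coe_mul, ← Subgroup.coe_mul, ← Subgroup.coe_mul] at h
  have h' := Subtype.ext h
  set v := (γ : F) * -t * u with hv
  have hvw : (γ : F) * t * u = -v := by rw [hv]; ring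
  rw [hvw, show X w (-v) = (X w v)⁻¹ from (R0 F).x_neg _ _]
  have c1 := (hcs v).eq
  have c2 := (hcr v).eq
  calc X r t * X s u * (X r t)⁻¹ * (X s u)⁻¹
      = X r t * X s u * X w v * ((X w v)⁻¹ * (X r t)⁻¹ * (X s u)⁻¹) := by group
    _ = X s u * X r t * ((X r t * X w v)⁻¹ * (X s u)⁻¹) := by rw [← h']; group
    _ = X s u * X r t * ((X w v * X r t)⁻¹ * (X s u)⁻¹) := by rw [c2]
    _ = X s u * (X w v)⁻¹ * (X s u)⁻¹ := by group
    _ = (X w v)⁻¹ := by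
        have := ((hcs v).inv_right).eq
        rw [this, mul_inv_cancel_right]

/-- root elements without a commutator term commute -/
theorem comm_nil {r s : Ix} (h1 : s ≠ r) (h2 : (MT.S).neg r ≠ s)
    (hL : chevE6.commTerms r.val s.val = []) (t u : F) : Commute (X r t : Gp F) (X s u) := by
  have h := uGoodE6.toCommGood.xg_comm r.isLt s.isLt (fun e => h1 (Fin.ext e))
    (fun e => h2 (Fin.ext ((neg_val r).trans e.symm))) t u
  rw [ChevalleyDatum.commWord, hL] at h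
  simp only [List.map_nil, wordG, List.prod_nil, mul_one, ← val_X] at h
  rw [← Subgroup.coe_mul, ← Subgroup.coe_mul] at h
  exact (Subtype.ext h).symm

/-- the highest root is central in `U` -/
theorem top_comm {u : Gp F} (hu : u ∈ Um F 1) (t : F) : Commute u (X (71 : Ix) t) := by
  obtain ⟨h11, hQ, -, -, -, -⟩ := top_facts
  have hy : X (71 : Ix) t ∈ cutG F 11 :=
    x_mem_Sg _ (T := fun r : Ix => (11 : ℤ) ≤ ht chevE6 r.val ∧ PQ r.val) ⟨h11.ge, hQ⟩ _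
  have h := comm_cut uGoodE6 upSet_PQ (by norm_num) hu (mem_cutG.1 hy)
  simp only [← Subgroup.coe_inv, ← Subgroup.coe_mul] at h
  have h2 : u * X (71 : Ix) t * u⁻¹ * (X (71 : Ix) t)⁻¹ ∈ cutG F (11 + 1) := mem_cutG.2 h
  have h3 := cutG_le_Um h2
  norm_num at h3
  exact commutatorElement_eq_one_iff_commute.1 (by rw [commutatorElement_def]; exact Um_top h3)

/-- a root element with non-negative coefficient keeps the positive coefficient part -/
theorem x_conj_cut {γ : Ix} (hγ : 0 ≤ coef chevE6 γ.val 1) (c : F) {g : Gp F} (hg : g ∈ cutG F 1) :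
    X γ c * g * (X γ c)⁻¹ ∈ cutG F 1 := by
  rw [mem_cutG] at hg ⊢
  have hG := uGoodE6.toCommGood.toGood
  have hn := uGoodE6.toCommGood.xg_mem_normalizer (F := F) (S := cut chevE6 PQ 1) γ.isLt
    (fun s hs hsS => ⟨fun e => by
      have := hsS.2
      subst e
      simp only [PQ, hG.coef_neg γ.isLt (show 1 < chevE6.rank by decide)] at this
      omega,
    fun _ t ht => by
      obtain ⟨h1, -, h3, h4⟩ := hG.commTerms_coef γ.isLt hs ht
      have hP : PQ t.1 := by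
        show 1 ≤ coef chevE6 t.1 1
        rw [h4 1 (by decide)]
        have a3 : (1 : ℤ) ≤ t.2.2.2 := by exact_mod_cast h3
        have b2 := mul_nonneg (show (0 : ℤ) ≤ t.2.2.1 by positivity) hγ
        have b3 := mul_le_mul a3 (show (1 : ℤ) ≤ _ from hsS.2) zero_le_one (by positivity)
        omega
      exact ⟨coef_pos ⟨t.1, h1⟩ hP, hP⟩⟩) c
  rw [Subgroup.coe_mul, Subgroup.coe_mul, Subgroup.coe_inv, val_X]
  exact (Subgroup.mem_normalizer_iff.1 hn _).1 hg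

theorem U_conj_cut {u : Gp F} (hu : u ∈ Um F 1) {g : Gp F} (hg : g ∈ cutG F 1) :
    u * g * u⁻¹ ∈ cutG F 1 := by
  rw [mem_cutG] at hg ⊢
  simp only [Subgroup.coe_mul, Subgroup.coe_inv]
  exact norm_cut uGoodE6 upSet_PQ le_rfl hu hg

namespace Cq

variable [Fintype F] (C : Cq F)

/-- the coordinate of the part outside an orbit -/
theorem Uo_coord {k : Fin 4} {g : Gp F} (hg : g ∈ C.dat.Uo k) {b : Ix} (hb : b ∈ fd.O.cls k) :
    ∃ d, Vec 1 (g : GL chevE6.Idx F) d ∧ d b.val = 0 := by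
  induction hg using Subgroup.closure_induction with
  | mem y hy =>
    obtain ⟨s, t, ⟨hs, hsn⟩, rfl⟩ := hy
    have h1 := (pos_iff s).1 hs
    rcases eq_or_lt_of_le h1 with h | h
    · refine ⟨_, vec_X le_rfl h.symm t, Pi.single_eq_of_ne (fun e => hsn ?_) _⟩
      exact (show s = b from Fin.ext e.symm) ▸ hb
    · exact ⟨fun _ => 0, vec_of_next uGoodE6 (X_mem_Um (by omega) t), rfl⟩
  | one => exact ⟨fun _ => 0, vec_of_next uGoodE6 (one_mem _), rfl⟩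
  | mul x y _ _ hx hy =>
    obtain ⟨d, hd, hd0⟩ := hx
    obtain ⟨d', hd', hd0'⟩ := hy
    exact ⟨d + d', by rw [Subgroup.coe_mul]; exact hd.mul uGoodE6 le_rfl hd', by simp [hd0, hd0']⟩
  | inv x _ hx =>
    obtain ⟨d, hd, hd0⟩ := hx
    exact ⟨-d, by rw [Subgroup.coe_inv]; exact hd.inv uGoodE6 le_rfl, by simp [hd0]⟩

/-- an element of an orbit with one rational leading coordinate is rational -/
theorem Uk_mem_M {k : Fin 4} {g : Gp F} (hg : g ∈ C.dat.Uk k) (hfix : C.sig g = g) {a : Ix}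
    (ha : a ∈ fd.O.cls k) {d : ℕ → F} (hd : Vec 1 (g : GL chevE6.Idx F) d)
    (hda : d a.val ^ C.q = d a.val) : g ∈ C.M := by
  have hG : g ∈ C.G1 := C.dat.full k g hg hfix
  have one : ∀ {r : Ix}, r ∈ ones → [r].Sublist MT.posList → fd.O.rho r = r →
      g ∈ Sg (R0 F) (· ∈ [r]) → g ∈ C.M := by
    intro r hr hsub hρ hg'
    obtain ⟨t, ht, rfl⟩ := cls_one C.Z hr hsub hg' hfix
    exact C.single_mem hρ ht
  have two : ∀ {p : Ix × Ix}, p ∈ pairs → [p.2, p.1].Sublist MT.posList → (a = p.1 ∨ a = p.2) →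
      p.2 ≠ p.1 → ht chevE6 p.1.val = 1 → ht chevE6 p.2.val = 1 →
      g ∈ Sg (R0 F) (· ∈ [p.1, p.2]) → g ∈ C.M := by
    intro p hp hsub ha' hne h1 h2 hg'
    obtain ⟨t, rfl⟩ := cls_pair C.Z hp hsub hg' hfix
    have e : prodX MT (relsOfCommGood ChevCore.commGoodE6 F) [p.1, p.2] (duo C.q p.1 t) =
        X p.1 t * X p.2 (t ^ C.q) := by simp [prodX, duo, hne]
    rw [e] at hd hG ⊢
    have := (vec_X_mul le_rfl h1 h2 t (t ^ C.q)).unique uGoodE6 le_rfl hd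
    have hne' : p.2.val ≠ p.1.val := fun h => hne (Fin.ext h)
    subst this
    have ht : t ^ C.q = t := by
      rcases ha' with rfl | rfl
      · simpa [Pi.single_eq_of_ne (Ne.symm hne')] using hda
      · simp [Pi.single_eq_of_ne hne', C.per] at hda
        exact hda.symm
    exact C.mem_M.2 ⟨hG, by rw [map_mul, C.phi_X, C.phi_X, ht, ht]⟩
  match k with
  | 0 => exact one (r := 46) (by decide) (by decide) (by decide) hg
  | 1 => exact one (r := 39) (by decide) (by decide) (by decide) hg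
  | 2 =>
    exact two (p := ((42 : Ix), (37 : Ix))) (by decide) (by decide)
      (by rcases List.mem_cons.1 (show a ∈ [(42 : Ix), 37] from ha) with h | h
          exacts [Or.inl h, Or.inr (List.mem_singleton.1 h)]) (by decide) (by decide +kernel) (by decide +kernel) hg
  | 3 =>
    exact two (p := ((56 : Ix), (36 : Ix))) (by decide) (by decide)
      (by rcases List.mem_cons.1 (show a ∈ [(56 : Ix), 36] from ha) with h | h
          exacts [Or.inl h, Or.inr (List.mem_singleton.1 h)]) (by decide) (by decide +kernel) (by decide +kernel) hg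

theorem nJ_conj (k : Fin 4) (r : Ix) : ∃ c : F, c ≠ 0 ∧ c ^ C.q = c ∧
    ∀ t, C.dat.nJ k * X r t * (C.dat.nJ k)⁻¹ = X ((MT.S).actw (fd.O.wd k) r) (c * t) := by
  simpa [OrbitData.word] using C.nW_conj [k] r

theorem nJ_mem_M (k : Fin 4) : C.dat.nJ k ∈ C.M := by simpa using C.nW_mem_M [k]

theorem X_mem_U1_conj {k : Fin 4} {g : Gp F} (hg : g ∈ C.dat.Uo k) (hfix : C.sig g = g) :
    C.dat.nJ k * g * (C.dat.nJ k)⁻¹ ∈ C.dat.U1 :=
  Subgroup.mem_inf.2 ⟨mul_mem (mul_mem (C.dat.nJ_mem k)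
    (C.dat.mem_U1_of_fixed (MT.shapeR _) C.longest (C.dat.Uo_le_U k hg) hfix).1) (inv_mem (C.dat.nJ_mem k)),
    C.dat.Uo_le_U k (C.dat.nJ_conj_Uo k hg)⟩

/-- a rational conjugate in `U` of a positive long root element moves to the highest root -/
theorem strip {δ : Ix} (hδ : fd.O.rho δ = δ) (h1 : 1 ≤ ht chevE6 δ.val) {u : Gp F} (hu : u ∈ C.dat.U1)
    {c : F} (hc : c ≠ 0) (hcq : c ^ C.q = c) (hfix : C.phi (u * X δ c * u⁻¹) = u * X δ c * u⁻¹) :
    ∃ m ∈ C.M, ∃ c', c' ≠ 0 ∧ c' ^ C.q = c' ∧ m * (u * X δ c * u⁻¹) * m⁻¹ = X (71 : Ix) c' := by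
  suffices ∀ (n : ℕ) (δ : Ix) (u : Gp F) (c : F), 11 ≤ ht chevE6 δ.val + n → fd.O.rho δ = δ →
      1 ≤ ht chevE6 δ.val → u ∈ C.dat.U1 → c ≠ 0 → c ^ C.q = c →
      C.phi (u * X δ c * u⁻¹) = u * X δ c * u⁻¹ →
      ∃ m ∈ C.M, ∃ c', c' ≠ 0 ∧ c' ^ C.q = c' ∧ m * (u * X δ c * u⁻¹) * m⁻¹ = X (71 : Ix) c' from
    this 11 δ u c (by omega) hδ h1 hu hc hcq hfix
  intro n
  induction n using Nat.strong_induction_on with
  | _ n IH =>
  intro δ u c hn hδ h1 hu hc hcq hfix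
  have huU : u ∈ Um F 1 := by rw [← U_eq]; exact hu.2
  by_cases h71 : δ = 71
  · subst h71
    refine ⟨1, one_mem _, c, hc, hcq, ?_⟩
    rw [(top_comm huU c).eq]
    group
  obtain ⟨k, -, hρk, hup, a, ha, T, -, hδa, huniq, hL⟩ := strip_cert δ hδ h1 h71
  obtain ⟨γ, hγ, hterms⟩ : ∃ γ : ℤ, (γ = 1 ∨ γ = -1) ∧ chevE6.commTerms a.val δ.val = [(T.val, γ, 1, 1)] := by
    rcases hL with h | h
    exacts [⟨1, Or.inl rfl, h⟩, ⟨-1, Or.inr rfl, h⟩]
  obtain ⟨a0, ha0, c0, hc0, eu, hσa, hσc⟩ :=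
    C.dat.fixed_decomp (MT.shapeR _) k hu.2 (C.dat.fixed u hu.1)
  have ha0U : a0 ∈ Um F 1 := by rw [← U_eq]; exact C.dat.Uk_le_U k ha0
  obtain ⟨d, hd⟩ := exists_vec' le_rfl ha0U
  obtain ⟨d', hd', hd0⟩ := C.Uo_coord hc0 ha
  have ha1 : ht chevE6 a.val = 1 := by
    rcases lt_or_eq_of_le (cls_ht a k ha) with h | h
    · exfalso
      have : ∀ k : Fin 4, ∀ a ∈ fd.O.cls k, ht chevE6 a.val = 1 := by decide +kernel
      have := this k a ha
      omega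
    · exact h.symm
  have hdu : Vec 1 (u : GL chevE6.Idx F) (d + d') := by
    rw [eu, Subgroup.coe_mul]; exact hd.mul uGoodE6 le_rfl hd'
  have hw : Vec 1 ((u⁻¹ * C.phi u : Gp F) : GL chevE6.Idx F) (-(d + d') + fun r => (d + d') r ^ C.q) := by
    rw [Subgroup.coe_mul, Subgroup.coe_inv]
    exact (hdu.inv uGoodE6 le_rfl).mul uGoodE6 le_rfl (C.phi_vec hdu)
  set w := u⁻¹ * C.phi u with hwdef
  have hcomm : w * X δ c * w⁻¹ * (X δ c)⁻¹ = 1 := by
    rw [map_mul, map_mul, map_inv, C.phi_X, hcq] at hfix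
    rw [mul_inv_eq_one]
    calc w * X δ c * w⁻¹ = u⁻¹ * (C.phi u * X δ c * (C.phi u)⁻¹) * u := by rw [hwdef]; group
      _ = X δ c := by rw [hfix]; group
  obtain ⟨e, e', he, he', hT⟩ := lead_comm' uGoodE6 (le_refl (1 : ℤ)) (w := T.val) (γ := γ) a.isLt ha1
    δ.isLt h1 (fun q hq hqm hqa => by
      obtain ⟨j, hj⟩ := huniq ⟨q, hq⟩ hqm (fun e => hqa (congrArg Fin.val e))
      exact ⟨j.val, j.isLt, hj⟩)
    (Or.inl ⟨fun e => hδa (Fin.ext e), hterms⟩) (hw.mem uGoodE6) c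
  have hTht : ht chevE6 T.val = 1 + ht chevE6 δ.val := by
    have := uGoodE6.toCommGood.toGood.commTerms_ht a.isLt δ.isLt (c := (T.val, γ, 1, 1))
      (show (T.val, γ, 1, 1) ∈ chevE6.commTerms a.val δ.val by rw [hterms]; simp)
    simpa [ha1] using this
  have he0 : Vec (1 + ht chevE6 δ.val) ((1 : Gp F) : GL chevE6.Idx F) e' := by
    rw [← hcomm]
    simp only [Subgroup.coe_mul, Subgroup.coe_inv, val_X]
    exact he'
  have hT0 := hT hTht
  rw [congrFun (he0.unique uGoodE6 (by omega) (vec_of_next uGoodE6 (one_mem _))) T.val,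
    congrFun (he.unique uGoodE6 le_rfl hw) a.val] at hT0
  have hγ0 : (γ : F) ≠ 0 := by rcases hγ with rfl | rfl <;> simp
  have hrat : d a.val ^ C.q = d a.val := by
    have := (mul_eq_zero.1 hT0.symm).resolve_right hc
    have := (mul_eq_zero.1 this).resolve_left hγ0
    simp only [Pi.add_apply, Pi.neg_apply, hd0, add_zero] at this
    exact (neg_add_eq_zero.1 this).symm
  have ha0M : a0 ∈ C.M := C.Uk_mem_M ha0 hσa ha hd hrat
  obtain ⟨ck, hck, hckq, hek⟩ := C.nJ_conj k δ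
  set nk := C.dat.nJ k
  have hm : nk * a0⁻¹ ∈ C.M := mul_mem (C.nJ_mem_M k) (inv_mem ha0M)
  have e1 : nk * a0⁻¹ * (u * X δ c * u⁻¹) * (nk * a0⁻¹)⁻¹ =
      (nk * c0 * nk⁻¹) * X ((MT.S).actw (fd.O.wd k) δ) (ck * c) * (nk * c0 * nk⁻¹)⁻¹ := by
    rw [eu, ← hek c]; group
  have hfix' : C.phi ((nk * c0 * nk⁻¹) * X ((MT.S).actw (fd.O.wd k) δ) (ck * c) * (nk * c0 * nk⁻¹)⁻¹) =
      (nk * c0 * nk⁻¹) * X ((MT.S).actw (fd.O.wd k) δ) (ck * c) * (nk * c0 * nk⁻¹)⁻¹ := by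
    rw [← e1, map_mul, map_mul, map_inv, (C.mem_M.1 hm).2, hfix]
  have h11 := (ht_ne ((MT.S).actw (fd.O.wd k) δ)).2
  obtain ⟨n', rfl⟩ : ∃ n', n = n' + 1 := ⟨n - 1, by omega⟩
  obtain ⟨m, hmM, c', hc', hc'q, hm'⟩ := IH n' (by omega) _ (nk * c0 * nk⁻¹) (ck * c)
    (by push_cast at hn; omega) hρk (by omega) (C.X_mem_U1_conj hc0 hσc) (mul_ne_zero hck hc)
    (by rw [mul_pow, hckq, hcq]) hfix'
  refine ⟨m * (nk * a0⁻¹), mul_mem hmM hm, c', hc', hc'q, ?_⟩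
  rw [← hm', ← e1]
  group

/-- conjugates of a rational element at the highest root in Bruhat form -/
theorem top_form {g : Gp F} (hg : g ∈ C.G1) {H : Subgroup (Gp F)} (hH : Mid C H) {c : F} (hc : c ≠ 0)
    (hcq : c ^ C.q = c) :
    ∃ u ∈ C.dat.U1, ∃ γ : Ix, fd.O.rho γ = γ ∧ ∃ c', c' ≠ 0 ∧ c' ^ C.q = c' ∧
      g * X (71 : Ix) c * g⁻¹ = u * X γ c' * u⁻¹ := by
  obtain ⟨p, hp, W, b, hb, e, -⟩ := hH.bruhat hg
  obtain ⟨v, hv, h, hh, rfl⟩ := C.exists_U1_H1' hb.1 hb.2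
  obtain ⟨k1, hk1, e1⟩ := (R0 F).H_scales hh.2 (71 : Ix)
  have e1' : h * X (71 : Ix) c * h⁻¹ = X (71 : Ix) (k1 * c) := e1 c
  have h71 := top_facts.2.2.1
  have hk : (k1 * c) ^ C.q = k1 * c := by
    have hin : X (71 : Ix) (k1 * c) ∈ C.G1 := by
      rw [← e1']; exact mul_mem (mul_mem hh.1 (C.mem_M.1 (C.single_mem h71 hcq)).1) (inv_mem hh.1)
    have := C.sig_fix hin
    obtain ⟨h2, -, -, -, -, h3⟩ := rn_facts (71 : Ix)
    rw [h71] at h2
    rw [C.sig_X, h71, h3 h2.symm, Int.cast_one, one_mul] at this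
    exact x_param_inj MT (relsOfCommGood ChevCore.commGoodE6 F) this
  obtain ⟨k2, hk2, hk2q, e2⟩ := C.nW_conj W (71 : Ix)
  refine ⟨p, hp, (MT.S).actw (fd.O.word W) 71, by rw [← C.actw_rho, h71], k2 * (k1 * c),
    mul_ne_zero hk2 (mul_ne_zero hk1 hc), by rw [mul_pow, hk2q, hk], ?_⟩
  have hvU : v ∈ Um F 1 := by rw [← U_eq]; exact hv.2
  rw [← e2, e]
  calc p * C.dat.nW W * (v * h) * X (71 : Ix) c * (p * C.dat.nW W * (v * h))⁻¹
      = p * C.dat.nW W * (v * (h * X (71 : Ix) c * h⁻¹) * v⁻¹) * (p * C.dat.nW W)⁻¹ := by group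
    _ = p * C.dat.nW W * X (71 : Ix) (k1 * c) * (p * C.dat.nW W)⁻¹ := by
        rw [e1', (top_comm hvU _).eq, mul_inv_cancel_right]
    _ = _ := by group

variable {C} {H : Subgroup (Gp F)} (hH : Mid C H) (hne : H ≠ C.G1)
include hH hne

theorem Mid.long_nonneg {u : Gp F} (hu : u ∈ C.dat.U1) {γ : Ix} (hγ : 0 ≤ coef chevE6 γ.val 1) {c : F}
    (hy : u * X γ c * u⁻¹ ∈ H) : u * X γ c * u⁻¹ ∈ C.M := by
  refine hH.mem_of_conj hne hy fun δ hδ => ?_
  obtain ⟨a, b, ha, hb, heM⟩ : ∃ a b : F, a ≠ 0 ∧ (fd.O.rho δ = δ → b = 0) ∧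
      X δ a * X (fd.O.rho δ) b ∈ C.M := by
    by_cases h : fd.O.rho δ = δ
    · exact ⟨1, 0, one_ne_zero, fun _ => rfl, by
        rw [cX_zero, mul_one]; exact C.single_mem h (one_pow _)⟩
    · obtain ⟨b, hb, hbq, -⟩ := C.pair_mem h (1 : F)
      exact ⟨1, b, one_ne_zero, fun e => absurd e h,
        C.mem_M.2 ⟨hb, by rw [map_mul, C.phi_X, C.phi_X, one_pow, hbq (one_pow _)]⟩⟩
  refine ⟨a, b, ha, hb, (C.mem_M.1 heM).2, ?_⟩
  have huU : u ∈ Um F 1 := by rw [← U_eq]; exact hu.2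
  have he : X δ a * X (fd.O.rho δ) b ∈ cutG F 1 :=
    mul_mem (x_mem_Sg _ (T := fun r : Ix => (1 : ℤ) ≤ ht chevE6 r.val ∧ PQ r.val) ⟨coef_pos δ hδ, hδ⟩ _)
      (x_mem_Sg _ (T := fun r : Ix => (1 : ℤ) ≤ ht chevE6 r.val ∧ PQ r.val)
        ⟨(ht_rho δ).symm ▸ coef_pos δ hδ, show 1 ≤ coef chevE6 _ 1 by rw [coef_rho]; exact hδ⟩ _)
  set e := X δ a * X (fd.O.rho δ) b
  set y := u * X γ c * u⁻¹ with hy'
  have hU : y * e * y⁻¹ ∈ (R0 F).U := by
    rw [U_eq]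
    refine cutG_le_Um ?_
    have h1 := U_conj_cut huU (x_conj_cut hγ c (U_conj_cut (inv_mem huU) he))
    refine (?_ : u * (X γ c * (u⁻¹ * e * u⁻¹⁻¹) * (X γ c)⁻¹) * u⁻¹ = y * e * y⁻¹) ▸ h1
    rw [hy']; group
  exact (C.mem_M.1 (hH.U_le_M hne (mul_mem (mul_mem hy (hH.le heM)) (inv_mem hy)) hU)).2

theorem Mid.long_neg {g : Gp F} (hg : g ∈ H) {c0 : F} (hc0 : c0 ≠ 0) (hc0q : c0 ^ C.q = c0)
    {u : Gp F} (hu : u ∈ C.dat.U1) {γ : Ix} (hγ : fd.O.rho γ = γ) (hcoef : coef chevE6 γ.val 1 = -1)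
    {c : F} (hc : c ≠ 0) (hcq : c ^ C.q = c)
    (e : g * X (71 : Ix) c0 * g⁻¹ = u * X γ c * u⁻¹) : g * X (71 : Ix) c0 * g⁻¹ ∈ C.M := by
  have h71 := top_facts.2.2.1
  set y := g * X (71 : Ix) c0 * g⁻¹ with hy
  have hyH : y ∈ H := mul_mem (mul_mem hg (hH.le (C.single_mem h71 hc0q))) (inv_mem hg)
  have key : ∀ (γ : Ix), fd.O.rho γ = γ → coef chevE6 γ.val 1 < 0 → γ ≠ 0 → ∀ t : F, ∃ T : Ix,
      fd.O.rho T = T ∧ 1 ≤ ht chevE6 T.val ∧ (∀ v, Commute (X γ t : Gp F) (X T v)) ∧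
      ∃ ε : ℤ, (ε = 1 ∨ ε = -1) ∧
        ∀ s, X γ t * X (71 : Ix) s * (X γ t)⁻¹ * (X (71 : Ix) s)⁻¹ = X T ((ε : F) * t * s) := by
    intro γ hγ hn h0 t
    rcases neg_coef γ hn hγ with ⟨e, -⟩ | ⟨-, T, hT, hT1, hTr, hnT, hnil, h7, hn7, hL⟩
    · exact absurd e h0
    have hcT : ∀ v, Commute (X γ t : Gp F) (X T v) := fun v => comm_nil hTr hnT hnil t v
    refine ⟨T, hT, hT1, hcT, ?_⟩
    have hc7 : ∀ s v, Commute (X (71 : Ix) s : Gp F) (X T v) := fun s v =>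
      (top_comm (X_mem_Um hT1 v) s).symm
    rcases hL with h | h
    · exact ⟨1, Or.inl rfl, fun s => comm_eq h7 hn7 h t s hcT (hc7 s)⟩
    · exact ⟨-1, Or.inr rfl, fun s => comm_eq h7 hn7 h t s hcT (hc7 s)⟩
  have h0 : γ ≠ 0 := fun h => by
    subst h
    have : coef chevE6 (0 : Ix).val 1 = -2 := by decide +kernel
    omega
  obtain ⟨T, hT, hT1, hcT, ε, hε, hcomm⟩ := key γ hγ (by omega) h0 c
  have huU : u ∈ Um F 1 := by rw [← U_eq]; exact hu.2
  have hv : y * X (71 : Ix) 1 * y⁻¹ * (X (71 : Ix) 1)⁻¹ = u * X T ((ε : F) * c * 1) * u⁻¹ := by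
    rw [e, ← hcomm 1]
    have h1 := ((top_comm huU (1 : F)).inv_left).eq
    have h2 := ((top_comm huU (1 : F)).inv_right).eq
    calc u * X γ c * u⁻¹ * X (71 : Ix) 1 * (u * X γ c * u⁻¹)⁻¹ * (X (71 : Ix) 1)⁻¹
        = u * X γ c * (u⁻¹ * X (71 : Ix) 1) * u * (X γ c)⁻¹ * (u⁻¹ * (X (71 : Ix) 1)⁻¹) := by group
      _ = u * X γ c * (X (71 : Ix) 1 * u⁻¹) * u * (X γ c)⁻¹ * ((X (71 : Ix) 1)⁻¹ * u⁻¹) := by
          rw [h1, ((top_comm huU (1 : F)).inv_right.inv_left).eq]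
      _ = _ := by group
  have hvM : u * X T ((ε : F) * c * 1) * u⁻¹ ∈ C.M := by
    refine hH.U_le_M hne ?_ ?_
    · rw [← hv]
      have h1 := hH.le (C.single_mem h71 (one_pow C.q : (1 : F) ^ C.q = 1))
      exact mul_mem (mul_mem (mul_mem hyH h1) (inv_mem hyH)) (inv_mem h1)
    · rw [U_eq]; exact mul_mem (mul_mem huU (X_mem_Um hT1 _)) (inv_mem huU)
  have hεc : (ε : F) * c * 1 ≠ 0 := by
    rcases hε with rfl | rfl <;> simp [hc]
  obtain ⟨m, hm, c'', hc'', -, hmv⟩ := C.strip hT hT1 hu hεc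
    (by rw [mul_one, mul_pow, C.pow_int, hcq]) (C.mem_M.1 hvM).2
  have hmH := hH.le hm
  obtain ⟨u', hu', γ', hγ', c', hc', -, e'⟩ := C.top_form (hH.le1 (mul_mem hmH hg)) hH hc0 hc0q
  have ey : m * y * m⁻¹ = u' * X γ' c' * u'⁻¹ := by rw [← e', hy]; group
  have hcom : Commute (m * y * m⁻¹) (X (71 : Ix) c'') := by
    rw [← hmv, e]
    have h := (hcT ((ε : F) * c * 1)).eq
    show _ * _ = _ * _
    calc m * (u * X γ c * u⁻¹) * m⁻¹ * (m * (u * X T ((ε : F) * c * 1) * u⁻¹) * m⁻¹)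
        = m * u * (X γ c * X T ((ε : F) * c * 1)) * u⁻¹ * m⁻¹ := by group
      _ = m * u * (X T ((ε : F) * c * 1) * X γ c) * u⁻¹ * m⁻¹ := by rw [h]
      _ = _ := by group
  have hu'U : u' ∈ Um F 1 := by rw [← U_eq]; exact hu'.2
  have hcom' : Commute (X γ' c' : Gp F) (X (71 : Ix) c'') := by
    rw [ey] at hcom
    have h1 := (top_comm hu'U c'').eq
    have h2 := hcom.eq
    show _ * _ = _ * _
    calc X γ' c' * X (71 : Ix) c''
        = u'⁻¹ * ((u' * X γ' c' * u'⁻¹) * (u' * X (71 : Ix) c'' * u'⁻¹)) * u' := by group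
      _ = u'⁻¹ * ((u' * X γ' c' * u'⁻¹) * X (71 : Ix) c'') * u' := by
          rw [h1, mul_inv_cancel_right]
      _ = u'⁻¹ * (X (71 : Ix) c'' * (u' * X γ' c' * u'⁻¹)) * u' := by rw [h2]
      _ = u'⁻¹ * X (71 : Ix) c'' * u' * X γ' c' := by group
      _ = _ := by rw [((top_comm hu'U c'').inv_left).eq, inv_mul_cancel_right]
  have hpos' : 0 ≤ coef chevE6 γ'.val 1 := by
    by_contra hn
    push Not at hn
    by_cases h0' : γ' = 0
    · subst h0'
      obtain ⟨-, -, -, hneg, hrefl, -⟩ := top_facts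
      set n := (R0 F).nr (71 : Ix) c'' with hn'
      have hnn : n * X (0 : Ix) c' * n⁻¹ = X (0 : Ix) c' := by
        have c1 : Commute (X (0 : Ix) c' : Gp F) (X (0 : Ix) (-c''⁻¹)) := by
          show _ * _ = _ * _
          rw [← (R0 F).x_add, add_comm, (R0 F).x_add]
        have c2 : Commute (X (0 : Ix) c' : Gp F) n := by
          show Commute _ (X (71 : Ix) c'' * X ((MT.S).neg 71) (-c''⁻¹) * X (71 : Ix) c'')
          rw [hneg]
          exact (hcom'.mul_right c1).mul_right hcom'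
        rw [← c2.eq, mul_inv_cancel_right]
      have hco : InCoset (R0 F) n ([] ++ fd.reflWord (71 : Ix)) := by
        rw [hn', (R0 F).nr_eq]
        exact InCoset.mul (R0 F)
          ⟨(R0 F).hr (71 : Ix) c'', (R0 F).hr_mem_H (r := (71 : Ix)) hc'', by simp⟩ (C.Z.nr_coset (71 : Ix))
      have h1 := hco.conj_Sg (R0 F) (T := fun r => r = (0 : Ix)) (T' := fun r => (MT.S).pos r)
        (fun r hr => by subst hr; rw [List.nil_append, hrefl, pos_iff, top_facts.1]; norm_num)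
        (x_mem_Sg _ (T := fun r => r = (0 : Ix)) rfl c')
      have h2 : X (0 : Ix) c' ∈ V (R0 F) :=
        x_mem_Sg _ (T := fun s : Ix => (MT.S).pos ((MT.S).neg s)) (by decide) _
      rw [show n * (R0 F).x (0 : Ix) c' * n⁻¹ = X (0 : Ix) c' from hnn] at h1
      exact hc' (cX_mul_eq_one (U_inter_V (R0 F) (MT.shapeR _) h1 h2))
    obtain ⟨T', -, -, -, ε', hε', hcomm'⟩ := key γ' hγ' hn h0' c'
    have := hcomm' c''
    rw [hcom'.eq, mul_inv_cancel_right, mul_inv_cancel] at this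
    have := cX_mul_eq_one this.symm
    rcases hε' with rfl | rfl <;> simp [hc', hc''] at this
  have hyM := hH.long_nonneg hne hu' hpos' (ey ▸ mul_mem (mul_mem hmH hyH) (inv_mem hmH))
  rw [← ey] at hyM
  have := mul_mem (mul_mem (inv_mem hm) hyM) hm
  simpa [mul_assoc] using this

/-- rational long root elements have rational conjugates -/
theorem Mid.long {g : Gp F} (hg : g ∈ H) {c0 : F} (hc0q : c0 ^ C.q = c0) :
    g * X (71 : Ix) c0 * g⁻¹ ∈ C.M := by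
  by_cases hc0 : c0 = 0
  · rw [hc0, cX_zero, mul_one, mul_inv_cancel]; exact one_mem _
  have h71 := top_facts.2.2.1
  obtain ⟨u, hu, γ, hγ, c, hc, hcq, e⟩ := C.top_form (hH.le1 hg) hH hc0 hc0q
  by_cases hn : 0 ≤ coef chevE6 γ.val 1
  · rw [e]
    refine hH.long_nonneg hne hu hn ?_
    rw [← e]
    exact mul_mem (mul_mem hg (hH.le (C.single_mem h71 hc0q))) (inv_mem hg)
  push Not at hn
  rcases neg_coef γ hn hγ with ⟨rfl, hρ, hcoef⟩ | ⟨hcoef, -⟩
  · obtain ⟨a0, ha0, v, hv, eu, hσa, hσv⟩ :=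
      C.dat.fixed_decomp (MT.shapeR _) 0 hu.2 (C.dat.fixed u hu.1)
    obtain ⟨t, ht, ea⟩ := cls_one C.Z (r := (46 : Ix)) (by decide) (by decide) ha0 hσa
    have ha0M : a0 ∈ C.M := by rw [ea]; exact C.single_mem (by decide) ht
    obtain ⟨ck, hck, hckq, hek⟩ := C.nJ_conj 0 (0 : Ix)
    set nk := C.dat.nJ 0
    have hm : nk * a0⁻¹ ∈ C.M := mul_mem (C.nJ_mem_M 0) (inv_mem ha0M)
    have := hH.long_neg hne (mul_mem (hH.le hm) hg) hc0 hc0q (C.X_mem_U1_conj hv hσv) hρ hcoef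
      (mul_ne_zero hck hc) (by rw [mul_pow, hckq, hcq]) (by
        rw [← hek c, show nk * a0⁻¹ * g * X (71 : Ix) c0 * (nk * a0⁻¹ * g)⁻¹ =
          nk * a0⁻¹ * (g * X (71 : Ix) c0 * g⁻¹) * (nk * a0⁻¹)⁻¹ by group, e, eu]
        simp only [nk]
        group)
    have := mul_mem (mul_mem (inv_mem hm) this) hm
    simpa [mul_assoc] using this
  · exact hH.long_neg hne hg hc0 hc0q hu hγ hcoef hc hcq e

end Cq

end Cfsg.Agent.E6Sub
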