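import Cfsg.Agent.E6Sub.LongRoot

/-!
The rational points form a proper maximal subgroup of the twisted group.
-/

set_option autoImplicit false
set_option maxRecDepth 4000

namespace Cfsg.Agent.E6Sub

open Cfsg.Lie Cfsg.Agent.ChevCore Cfsg.Agent.ChevGroup Cfsg.Agent.ChevIsogeny Cfsg.Agent.Chev54
open Cfsg.Agent.Twisted Cfsg.Agent.Twisted.TypeE6

variable {F : Type*} [Field F]

theorem small_comm : ∀ p ∈ ([(39, 40), (37, 40), (39, 43), (42, 43), (37, 44), (43, 44), (40, 44)] : List (Ix × Ix)),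
    p.2 ≠ p.1 ∧ (MT.S).neg p.1 ≠ p.2 ∧ chevE6.commTerms p.1.val p.2.val = [] := by decide +kernel

theorem small_terms : chevE6.commTerms (39 : Ix).val (37 : Ix).val = [((40 : Ix).val, -1, 1, 1)] ∧
    chevE6.commTerms (39 : Ix).val (42 : Ix).val = [((43 : Ix).val, 1, 1, 1)] ∧
    chevE6.commTerms (37 : Ix).val (43 : Ix).val = [((44 : Ix).val, 1, 1, 1)] := by decide +kernel

namespace Cq

variable [Fintype F] (C : Cq F) {H : Subgroup (Gp F)}

/-- all conjugates by `H` are rational -/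
def Good (C : Cq F) (H : Subgroup (Gp F)) (x : Gp F) : Prop := ∀ g ∈ H, C.phi (g * x * g⁻¹) = g * x * g⁻¹

variable {C}

theorem Good.mul {x y : Gp F} (hx : C.Good H x) (hy : C.Good H y) : C.Good H (x * y) := fun g hg => by
  rw [show g * (x * y) * g⁻¹ = g * x * g⁻¹ * (g * y * g⁻¹) by group, map_mul, hx g hg, hy g hg]

theorem Good.inv {x : Gp F} (hx : C.Good H x) : C.Good H x⁻¹ := fun g hg => by
  rw [show g * x⁻¹ * g⁻¹ = (g * x * g⁻¹)⁻¹ by group, map_inv, hx g hg]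

theorem Good.conj {x h : Gp F} (hh : h ∈ H) (hx : C.Good H x) : C.Good H (h * x * h⁻¹) := fun g hg => by
  rw [show g * (h * x * h⁻¹) * g⁻¹ = g * h * x * (g * h)⁻¹ by group]
  exact hx _ (mul_mem hg hh)

variable (hH : Mid C H) (hne : H ≠ C.G1)
include hH hne

theorem Mid.good_single {r : Ix} (hr : fd.O.rho r = r) {t : F} (ht : t ^ C.q = t) :
    C.Good H (X r t) := by
  have htop : ∀ s : F, s ^ C.q = s → C.Good H (X (71 : Ix) s) := fun s hs g hg =>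
    (C.mem_M.1 (hH.long hne hg hs)).2
  obtain ⟨W, hW⟩ := exists_word (reach_single (71 : Ix) top_facts.2.2.1)
  obtain ⟨c, hc, hcq, he⟩ := C.nW_conj W 46
  obtain ⟨W', hW'⟩ := exists_word (reach_single r hr)
  obtain ⟨c', hc', hcq', he'⟩ := C.nW_conj W' 46
  have h1 := (htop (c * (t / c')) (by rw [mul_pow, hcq, div_pow, ht, hcq'])).conj
    (inv_mem (hH.le (C.nW_mem_M W)))
  have e1 := he (t / c')
  rw [hW] at e1
  rw [← e1] at h1
  have e2 : (C.dat.nW W)⁻¹ * (C.dat.nW W * X (46 : Ix) (t / c') * (C.dat.nW W)⁻¹) * (C.dat.nW W)⁻¹⁻¹ =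
      X (46 : Ix) (t / c') := by group
  rw [e2] at h1
  have h2 := h1.conj (hH.le (C.nW_mem_M W'))
  rwa [he', hW', mul_div_cancel₀ t hc'] at h2

theorem Mid.good_pair : ∃ a b : F, a ≠ 0 ∧ C.Good H (X (40 : Ix) a * X (43 : Ix) b) := by
  obtain ⟨h1, h2, h3⟩ := small_terms
  have hc : ∀ p ∈ ([(39, 40), (37, 40), (39, 43), (42, 43), (37, 44), (43, 44), (40, 44)] : List (Ix × Ix)),
      ∀ t u : F, Commute (X p.1 t : Gp F) (X p.2 u) := fun p hp t u =>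
    comm_nil (small_comm p hp).1 (small_comm p hp).2.1 (small_comm p hp).2.2 t u
  have e1 : X (39 : Ix) (1 : F) * X (37 : Ix) 1 * (X (39 : Ix) 1)⁻¹ * (X (37 : Ix) 1)⁻¹ =
      X (40 : Ix) (((-1 : ℤ) : F) * 1 * 1) :=
    comm_eq (by decide) (by decide +kernel) h1 1 1 (hc (39, 40) (by decide) 1) (hc (37, 40) (by decide) 1)
  have e2 : X (39 : Ix) (1 : F) * X (42 : Ix) 1 * (X (39 : Ix) 1)⁻¹ * (X (42 : Ix) 1)⁻¹ =
      X (43 : Ix) (((1 : ℤ) : F) * 1 * 1) :=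
    comm_eq (by decide) (by decide +kernel) h2 1 1 (hc (39, 43) (by decide) 1) (hc (42, 43) (by decide) 1)
  set a := ((-1 : ℤ) : F) * 1 * 1 with ha
  set b := ((1 : ℤ) : F) * 1 * 1 with hb
  have e3 : X (37 : Ix) (1 : F) * X (43 : Ix) b * (X (37 : Ix) 1)⁻¹ * (X (43 : Ix) b)⁻¹ =
      X (44 : Ix) (((1 : ℤ) : F) * 1 * b) :=
    comm_eq (by decide) (by decide +kernel) h3 1 b (hc (37, 44) (by decide) 1) (hc (43, 44) (by decide) b)
  set e := ((1 : ℤ) : F) * 1 * b with he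
  refine ⟨a, b, by simp [ha], ?_⟩
  have hog : X (37 : Ix) (1 : F) * X (42 : Ix) 1 ∈ H := by
    have h := hH.le (C.og_mem_M 2)
    have e : C.Z.og 2 (1 : F) = X (37 : Ix) (1 : F) * X (42 : Ix) 1 := by
      simp only [Frame.og, prodX, show fd.orth 2 = [(37 : Ix), 42] from rfl, List.map_cons, List.map_nil,
        List.prod_cons, List.prod_nil, mul_one]
    rwa [e] at h
  set P := X (37 : Ix) (1 : F) * X (42 : Ix) 1 with hP
  have g39 := hH.good_single hne (r := (39 : Ix)) (by decide) (one_pow C.q : (1 : F) ^ C.q = 1)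
  have g44 := hH.good_single hne (r := (44 : Ix)) (by decide +kernel) (t := e) (by simp [he, hb])
  have hG := g44.inv.mul (g39.mul (g39.inv.conj hog))
  refine (?_ : (X (44 : Ix) e)⁻¹ * (X (39 : Ix) 1 * (P * (X (39 : Ix) 1)⁻¹ * P⁻¹)) =
    X (40 : Ix) a * X (43 : Ix) b) ▸ hG
  have h4 := (hc (40, 44) (by decide) a e).eq
  calc (X (44 : Ix) e)⁻¹ * (X (39 : Ix) 1 * (P * (X (39 : Ix) 1)⁻¹ * P⁻¹))
      = (X (44 : Ix) e)⁻¹ * ((X (39 : Ix) 1 * X (37 : Ix) 1 * (X (39 : Ix) 1)⁻¹ * (X (37 : Ix) 1)⁻¹) *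
          (X (37 : Ix) 1 * (X (39 : Ix) 1 * X (42 : Ix) 1 * (X (39 : Ix) 1)⁻¹ * (X (42 : Ix) 1)⁻¹) *
            (X (37 : Ix) 1)⁻¹)) := by rw [hP]; group
    _ = (X (44 : Ix) e)⁻¹ * (X (40 : Ix) a * (X (37 : Ix) 1 * X (43 : Ix) b * (X (37 : Ix) 1)⁻¹)) := by
        rw [e1, e2]
    _ = (X (44 : Ix) e)⁻¹ * (X (40 : Ix) a * (X (44 : Ix) e * X (43 : Ix) b)) := by
        rw [← e3]; group
    _ = _ := by rw [← mul_assoc (X (40 : Ix) a), h4]; group

theorem Mid.eq_M : H = C.M := by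
  refine le_antisymm (fun g hg => hH.mem_of_conj hne hg fun δ _ => ?_) hH.le
  have fin : ∀ a b : F, C.Good H (X δ a * X (fd.O.rho δ) b) →
      C.phi (X δ a * X (fd.O.rho δ) b) = X δ a * X (fd.O.rho δ) b ∧
      C.phi (g * (X δ a * X (fd.O.rho δ) b) * g⁻¹) = g * (X δ a * X (fd.O.rho δ) b) * g⁻¹ := fun a b h =>
    ⟨by simpa using h 1 (one_mem _), h g hg⟩
  by_cases h : fd.O.rho δ = δ
  · refine ⟨1, 0, one_ne_zero, fun _ => rfl, fin 1 0 ?_⟩
    rw [cX_zero, mul_one]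
    exact hH.good_single hne h (one_pow _)
  obtain ⟨a, b, ha, hgood⟩ := hH.good_pair hne
  have h40 : fd.O.rho (40 : Ix) ≠ 40 := by decide +kernel
  obtain ⟨W, hW⟩ := exists_word (reach_pair (40 : Ix) h40)
  obtain ⟨W', hW'⟩ := exists_word (reach_pair δ h)
  obtain ⟨c, hc, -, he⟩ := C.nW_conj W 42
  obtain ⟨c2, hc2, -, he2⟩ := C.nW_conj W 37
  obtain ⟨c', hc', -, he'⟩ := C.nW_conj W' 42
  obtain ⟨c2', -, -, he2'⟩ := C.nW_conj W' 37
  have h37 : fd.O.rho (42 : Ix) = 37 := by decide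
  have h43 : fd.O.rho (40 : Ix) = 43 := by decide +kernel
  have e1 := he (a / c)
  have e2 := he2 (b / c2)
  rw [hW, mul_div_cancel₀ a hc] at e1
  rw [← h37, C.actw_rho, hW, h43, mul_div_cancel₀ b hc2, h37] at e2
  rw [← e1, ← e2] at hgood
  have h1 := (hgood.conj (inv_mem (hH.le (C.nW_mem_M W)))).conj (hH.le (C.nW_mem_M W'))
  refine ⟨c' * (a / c), c2' * (b / c2), mul_ne_zero hc' (div_ne_zero ha hc), fun e => absurd e h, fin _ _ ?_⟩
  have e3 := he' (a / c)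
  have e4 := he2' (b / c2)
  rw [hW'] at e3
  rw [← h37, C.actw_rho, hW', h37] at e4
  rw [← e3, ← e4]
  refine (?_ : _ = C.dat.nW W' * X (42 : Ix) (a / c) * (C.dat.nW W')⁻¹ *
    (C.dat.nW W' * X (37 : Ix) (b / c2) * (C.dat.nW W')⁻¹)) ▸ h1
  group

omit hne hH

variable (C)

theorem exists_irrational : ∃ t : F, t ^ C.q ≠ t := by
  obtain ⟨g, hg⟩ := IsCyclic.exists_ofOrder_eq_natCard (α := Fˣ)
  refine ⟨(g : F), fun h => ?_⟩
  rw [Nat.card_units, Nat.card_eq_fintype_card, C.hK] at hg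
  have h1 : 1 ≤ C.q := C.hq.pos
  have h2 : g ^ (C.q - 1) = 1 := by
    refine Units.ext ?_
    rw [Units.val_pow_eq_pow_val, Units.val_one]
    have : (g : F) ^ (C.q - 1) * g = g := by rw [← pow_succ, Nat.sub_add_cancel h1, h]
    exact mul_right_cancel₀ g.ne_zero (this.trans (one_mul _).symm)
  have h3 := orderOf_dvd_of_pow_eq_one h2
  rw [hg] at h3
  have h4 := C.hq.two_le
  have h5 := Nat.le_of_dvd (by omega) h3
  have h6 : C.q * 2 ≤ C.q ^ 2 := by rw [pow_two]; exact Nat.mul_le_mul_left _ h4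
  omega

theorem M_ne : C.M ≠ C.G1 := by
  intro h
  obtain ⟨t, hirr⟩ := C.exists_irrational
  obtain ⟨a, hmov, ha⟩ : ∃ a : Ix, fd.O.rho a ≠ a ∧ ht chevE6 a.val = 1 :=
    ⟨42, by decide, by decide +kernel⟩
  obtain ⟨u, hu, -, -⟩ := C.pair_mem hmov t
  have hfix := (C.mem_M.1 (h ▸ hu)).2
  have hv := vec_X_mul le_rfl ha (show ht chevE6 (fd.O.rho a).val = 1 by rw [ht_rho, ha]) t u
  have h2 := C.phi_vec hv
  rw [hfix] at h2
  have := congrFun (hv.unique uGoodE6 le_rfl h2) a.val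
  simp [Pi.single_eq_of_ne (show a.val ≠ (fd.O.rho a).val from fun e => hmov (Fin.ext e.symm))] at this
  exact hirr this.symm

end Cq

end Cfsg.Agent.E6Sub
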