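import Cfsg.Agent.E6Sub.Layers
import Cfsg.Agent.Twisted.Groups.E6Inst
import Cfsg.Agent.Twisted.Fixed
import Cfsg.Agent.Twisted.Transfer

/-!
The twisted group of type E6 with the field automorphism on entries: layers, and the rational root elements.
-/

set_option autoImplicit false
set_option maxRecDepth 4000

namespace Cfsg.Agent.E6Sub

open Cfsg.Lie Cfsg.Agent.ChevCore Cfsg.Agent.ChevGroup Cfsg.Agent.ChevIsogeny Cfsg.Agent.Chev54
open Cfsg.Agent.Twisted Cfsg.Agent.Twisted.TypeE6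

/-- the root indices -/
abbrev Ix := Fin MT.tab.n

/-- the Chevalley group of type E6 -/
abbrev Gp (F : Type*) [Field F] := ↥(chevE6.group F)

/-- the tabulated relations -/
noncomputable abbrev R0 (F : Type*) [Field F] := MT.rel (relsOfCommGood ChevCore.commGoodE6 F)

/-- the symmetry on root numbers -/
def rn (r : ℕ) : ℕ := (rhoL.map Fin.val).getD r r

theorem rn_facts : ∀ r : Ix, (fd.O.rho r).val = rn r.val ∧ ChevIsogeny.IsoData.lf PP r.val = 1 ∧
    rn r.val < 72 ∧ rn (rn r.val) = r.val ∧ (PP.ef r.val = 1 ∨ PP.ef r.val = -1) ∧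
    (rn r.val = r.val → PP.ef r.val = 1) := by decide +kernel

theorem ht_rn : ∀ r : Ix, ht chevE6 (rn r.val) = ht chevE6 r.val := by decide +kernel

theorem rho_rho (r : Ix) : fd.O.rho (fd.O.rho r) = r := by
  refine Fin.ext ?_
  rw [(rn_facts _).1, (rn_facts r).1, (rn_facts r).2.2.2.1]

/-- the images of a root by the words in the orbits, by number of steps -/
def reachL (r0 : Ix) : ℕ → List Ix
  | 0 => [r0]
  | n + 1 => ((reachL r0 n) ++
      (List.finRange 4).flatMap fun k => (reachL r0 n).map ((MT.S).actw (fd.O.wd k))).dedup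

theorem reach_single : ∀ r : Ix, fd.O.rho r = r → r ∈ reachL 46 12 := by decide +kernel

theorem reach_pair : ∀ r : Ix, fd.O.rho r ≠ r → r ∈ reachL 42 12 := by decide +kernel

theorem exists_word {r0 : Ix} : ∀ {n : ℕ} {r : Ix}, r ∈ reachL r0 n →
    ∃ W : List (Fin 4), (MT.S).actw (fd.O.word W) r0 = r := by
  intro n
  induction n with
  | zero =>
    intro r hr
    simp only [reachL, List.mem_singleton] at hr
    exact ⟨[], by simp [OrbitData.word, hr]⟩
  | succ n ih =>
    intro r hr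
    simp only [reachL, List.mem_dedup, List.mem_append, List.mem_flatMap, List.mem_map] at hr
    rcases hr with hr | ⟨k, -, s, hs, rfl⟩
    · exact ih hr
    · obtain ⟨W, rfl⟩ := ih hs
      exact ⟨k :: W, by rw [show fd.O.word (k :: W) = fd.O.wd k ++ fd.O.word W by simp [OrbitData.word],
        RootIdx.actw_append]⟩

/-- a field with `q ^ 2` elements -/
structure Cq (F : Type*) [Field F] [Fintype F] where
  q : ℕ
  hq : IsPrimePow q
  hK : Fintype.card F = q ^ 2

namespace Cq

variable {F : Type*} [Field F] [Fintype F] (C : Cq F)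

theorem Z : Frame (T := MT) (relsOfCommGood ChevCore.commGoodE6 F) PP C.q fd := frame₀ C.hq C.hK

theorem gens' : Gens C.Z (genG MT (relsOfCommGood ChevCore.commGoodE6 F) (e6Words F C.q)) (nj C.Z) :=
  gens C.Z C.hq C.hK

/-- the twisted group -/
noncomputable abbrev G1 : Subgroup (Gp F) := genG MT (relsOfCommGood ChevCore.commGoodE6 F) (e6Words F C.q)

/-- the twisted data -/
noncomputable abbrev dat : Data (R0 F) C.G1 (Fin 4) := C.gens'.data

/-- the twisting map -/
noncomputable abbrev sig : Gp F →* Gp F := C.Z.σ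

/-- the `q`-th power -/
def fr : F →+* F where
  toFun a := a ^ C.q
  map_one' := one_pow _
  map_mul' a b := mul_pow a b _
  map_zero' := zero_pow C.hq.ne_zero
  map_add' := (qpow_hom C.hq C.hK).1

theorem fr_apply (a : F) : C.fr a = a ^ C.q := rfl

/-- the field map on entries -/
noncomputable abbrev phi : Gp F →* Gp F := frobG ChevCore.commGoodE6 C.fr

/-- the fixed subgroup in the twisted group -/
noncomputable def M : Subgroup (Gp F) := C.G1 ⊓ MonoidHom.eqLocus C.phi (MonoidHom.id _)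

theorem mem_M {g : Gp F} : g ∈ C.M ↔ g ∈ C.G1 ∧ C.phi g = g := Iff.rfl

end Cq

variable {F : Type*} [Field F]

/-- the root element -/
noncomputable abbrev X (r : Ix) (t : F) : Gp F := (R0 F).x r t

theorem val_X (r : Ix) (t : F) : ((X r t : Gp F) : GL chevE6.Idx F) = xg chevE6 F r.val t :=
  Units.ext (by rw [uGoodE6.toCommGood.toGood.val_xg]; rfl)

/-- `U_m` -/
noncomputable def Um (F : Type*) [Field F] (m : ℤ) : Subgroup (Gp F) :=
  (XS chevE6 F (htGe chevE6 m)).comap (chevE6.group F).subtype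

theorem mem_Um {m : ℤ} {g : Gp F} : g ∈ Um F m ↔ (g : GL chevE6.Idx F) ∈ XS chevE6 F (htGe chevE6 m) :=
  Iff.rfl

theorem X_mem_Um {r : Ix} {m : ℤ} (h : m ≤ ht chevE6 r.val) (t : F) : X r t ∈ Um F m := by
  rw [mem_Um, val_X]
  exact xg_mem_XS r.isLt h t

theorem Um_mono {m n : ℤ} (h : n ≤ m) : Um F m ≤ Um F n := fun _ hg =>
  XS_mono (fun r (hr : m ≤ ht chevE6 r) => show n ≤ ht chevE6 r by omega) hg

theorem U_eq : (R0 F).U = Um F 1 := by
  refine SetLike.ext fun g => ?_
  rw [mem_Um]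
  have h : ((R0 F).U).map (chevE6.group F).subtype = XS chevE6 F (htGe chevE6 1) := by
    rw [Model.U_map, uGoodE6.toCommGood.toGood.posUnipotent_eq]
  rw [← h]
  exact (Subgroup.mem_map_iff_mem Subtype.coe_injective).symm

theorem Um_top {g : Gp F} (hg : g ∈ Um F 12) : g = 1 := by
  rw [mem_Um, uGoodE6.htGe_eq_bot (by decide +kernel), Subgroup.mem_bot] at hg
  exact Subtype.ext hg

theorem exists_list {m : ℤ} {d : ℕ → F} (hd : SuppHt chevE6 F m d) :
    ∀ L : List ℕ, (∀ r ∈ L, r < 72) →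
      ∃ g : Gp F, (g : GL chevE6.Idx F) = prodL chevE6 F L d := by
  intro L
  induction L with
  | nil => exact fun _ => ⟨1, by simp [prodL]⟩
  | cons r L ih =>
    intro hL
    obtain ⟨g, hg⟩ := ih fun s hs => hL s (List.mem_cons_of_mem _ hs)
    exact ⟨X ⟨r, hL r (List.mem_cons_self ..)⟩ (d r) * g, by rw [prodL_cons, Subgroup.coe_mul, val_X, hg]⟩

namespace Cq

variable [Fintype F] (C : Cq F)

theorem phi_X (r : Ix) (t : F) : C.phi (X r t) = X r (t ^ C.q) :=
  frobG_x MT ChevCore.commGoodE6 C.fr r t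

theorem sig_X (r : Ix) (t : F) :
    C.sig (X r t) = X (fd.O.rho r) ((PP.ef r.val : F) * t ^ C.q) := by
  show C.Z.σ _ = _
  rw [C.Z.σ_x, show ChevIsogeny.IsoHyp.lam PP C.q r.val = ChevIsogeny.IsoData.lf PP r.val * C.q from rfl,
    (rn_facts r).2.1, one_mul]

theorem sig_fix {g : Gp F} (hg : g ∈ C.G1) : C.sig g = g := C.gens'.fixed g hg

theorem per (a : F) : (a ^ C.q) ^ C.q = a := by
  rw [← pow_mul, ← pow_two]; exact (qpow_hom C.hq C.hK).2.2 a

theorem phi_val (g : Gp F) :
    ((C.phi g : Gp F) : GL chevE6.Idx F) = Sub.mapE chevE6 C.fr (g : GL chevE6.Idx F) := rfl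

theorem phi_phi (g : Gp F) : C.phi (C.phi g) = g := by
  refine Model.mat_inj ?_
  rw [mat_frobG, mat_frobG]
  ext i j
  exact C.per _

theorem phi_Um {m : ℤ} {g : Gp F} (hg : g ∈ Um F m) : C.phi g ∈ Um F m := by
  rw [mem_Um] at hg ⊢
  have hle : XS chevE6 F (htGe chevE6 m) ≤
      (XS chevE6 F (htGe chevE6 m)).comap (Sub.mapE chevE6 C.fr) := XS_le fun r t hr hS => by
    rw [Subgroup.mem_comap, Sub.mapE_xg C.fr uGoodE6.toCommGood hr]
    exact xg_mem_XS hr hS _
  exact hle hg

theorem phi_vec {m : ℤ} {g : Gp F} {d : ℕ → F} (h : Vec m (g : GL chevE6.Idx F) d) :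
    Vec m ((C.phi g : Gp F) : GL chevE6.Idx F) fun r => d r ^ C.q := by
  refine ⟨fun r hr => h.1 r fun e => hr (by simp [e, zero_pow C.hq.ne_zero]), ?_⟩
  have hle : XS chevE6 F (htGe chevE6 (m + 1)) ≤
      (XS chevE6 F (htGe chevE6 (m + 1))).comap (Sub.mapE chevE6 C.fr) := XS_le fun r t hr hS => by
    rw [Subgroup.mem_comap, Sub.mapE_xg C.fr uGoodE6.toCommGood hr]
    exact xg_mem_XS hr hS _
  have := hle h.2
  rw [Subgroup.mem_comap, map_mul, map_inv,
    Sub.mapE_prodL C.fr uGoodE6.toCommGood _ fun r hr => ((mem_posL' uGoodE6 r).1 hr).1] at this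
  exact this

theorem sig_Um {m : ℤ} {g : Gp F} (hg : g ∈ Um F m) : C.sig g ∈ Um F m := by
  rw [mem_Um] at hg
  have hle : XS chevE6 F (htGe chevE6 m) ≤
      ((Um F m).comap C.sig).map (chevE6.group F).subtype := XS_le fun r t hr hS => by
    refine ⟨X ⟨r, hr⟩ t, ?_, val_X _ _⟩
    show C.sig _ ∈ Um F m
    rw [C.sig_X]
    refine X_mem_Um ?_ _
    rw [(rn_facts _).1, ht_rn ⟨r, hr⟩]
    exact hS
  obtain ⟨g', hg', e⟩ := hle hg
  rwa [Subtype.ext (show ((g : Gp F) : GL chevE6.Idx F) = g' from e.symm)]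

/-- the twisting map on a layer -/
theorem sig_vec {m : ℤ} (hm : 1 ≤ m) {g : Gp F} {d : ℕ → F} (h : Vec m (g : GL chevE6.Idx F) d) :
    ∃ e, Vec m ((C.sig g : Gp F) : GL chevE6.Idx F) e ∧
      ∀ r : Ix, e (rn r.val) = (PP.ef r.val : F) * d r.val ^ C.q := by
  have hU := uGoodE6
  let f : ℕ → F := fun r => (PP.ef r : F) * d r ^ C.q
  have key : ∀ L : List ℕ, (∀ r ∈ L, r < 72) → ∀ g : Gp F,
      (g : GL chevE6.Idx F) = prodL chevE6 F L d →
      Vec m ((C.sig g : Gp F) : GL chevE6.Idx F) (L.map fun r => Pi.single (rn r) (f r)).sum := by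
    intro L
    induction L with
    | nil =>
      intro _ g hg
      have : g = 1 := Subtype.ext (by simpa [prodL] using hg)
      subst this
      simp only [map_one, List.map_nil, List.sum_nil]
      exact vec_of_next hU (one_mem _)
    | cons r L ih =>
      intro hL g hg
      have hr : r < 72 := hL r (List.mem_cons_self ..)
      set x : Gp F := X ⟨r, hr⟩ (d r)
      have hg' : ((x⁻¹ * g : Gp F) : GL chevE6.Idx F) = prodL chevE6 F L d := by
        rw [Subgroup.coe_mul, Subgroup.coe_inv, hg, prodL_cons, val_X, inv_mul_cancel_left]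
      have h2 := ih (fun s hs => hL s (List.mem_cons_of_mem _ hs)) _ hg'
      have h1 : Vec m ((C.sig x : Gp F) : GL chevE6.Idx F) (Pi.single (rn r) (f r)) := by
        rw [C.sig_X, val_X, (rn_facts ⟨r, hr⟩).1]
        by_cases h0 : d r = 0
        · have e : f r = 0 := by simp [f, h0, zero_pow C.hq.ne_zero]
          rw [h0, zero_pow C.hq.ne_zero, mul_zero, e, Pi.single_zero, hU.toCommGood.toGood.xg_zero]
          exact vec_of_next hU (one_mem _)
        · have hh := (h.1 r h0).2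
          rw [← hh, ← ht_rn ⟨r, hr⟩]
          refine vec_xg hU (rn_facts ⟨r, hr⟩).2.2.1 ?_ _
          rw [ht_rn ⟨r, hr⟩, hh]; exact hm
      have := h1.mul hU hm h2
      rw [← Subgroup.coe_mul, ← map_mul, mul_inv_cancel_left] at this
      simpa using this
  obtain ⟨P, hP⟩ := exists_list h.1 (posL (D := chevE6)) fun r hr => ((mem_posL' hU r).1 hr).1
  have hrest : P⁻¹ * g ∈ Um F (m + 1) := by
    rw [mem_Um, Subgroup.coe_mul, Subgroup.coe_inv, hP]
    exact h.2
  have h2 := (key _ (fun r hr => ((mem_posL' hU r).1 hr).1) P hP).mul hU hm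
    (vec_of_next hU (C.sig_Um hrest))
  simp only [Subgroup.coe_subtype] at h2
  rw [← Subgroup.coe_mul, ← map_mul, mul_inv_cancel_left] at h2
  refine ⟨_, h2, fun r => ?_⟩
  simp only [Pi.add_apply, add_zero]
  show _ = f r.val
  rw [← List.sum_toFinset _ posL_nodup, Finset.sum_apply, Finset.sum_eq_single r.val]
  · simp
  · intro s hs hne
    rw [Pi.single_eq_of_ne]
    intro e
    have hs' := ((mem_posL' hU s).1 (List.mem_toFinset.1 hs)).1
    have := congrArg rn e
    rw [(rn_facts r).2.2.2.1, (rn_facts ⟨s, hs'⟩).2.2.2.1] at this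
    exact hne this.symm
  · intro hn
    have h0 : d r.val = 0 := by
      by_contra hne
      obtain ⟨h1, h2⟩ := h.1 r.val hne
      exact hn (List.mem_toFinset.2 ((mem_posL' hU _).2 ⟨h1, by omega⟩))
    simp [f, h0, zero_pow C.hq.ne_zero]

theorem vec_fixed {m : ℤ} (hm : 1 ≤ m) {g : Gp F} (hg : g ∈ C.G1) {d : ℕ → F}
    (h : Vec m (g : GL chevE6.Idx F) d) (r : Ix) :
    d (rn r.val) = (PP.ef r.val : F) * d r.val ^ C.q := by
  obtain ⟨e, he, hee⟩ := C.sig_vec hm h
  rw [C.sig_fix hg] at he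
  rw [congrFun (h.unique uGoodE6 hm he) (rn r.val), hee]

/-- products of `nJ` are rational -/
theorem phi_nJ (k : Fin 4) : C.phi (C.dat.nJ k) = C.dat.nJ k := by
  have hp : ∀ L : List Ix, C.phi ((L.map fun r => X r (1 : F)).prod) = (L.map fun r => X r 1).prod := by
    intro L
    induction L with
    | nil => simp
    | cons r L ih => simp only [List.map_cons, List.prod_cons, map_mul, ih, C.phi_X, one_pow]
  have hn : ∀ L : List Ix, C.phi ((L.map fun r => X r (-1 : F)).prod) = (L.map fun r => X r (-1)).prod := by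
    intro L
    induction L with
    | nil => simp
    | cons r L ih =>
      simp only [List.map_cons, List.prod_cons, map_mul, ih, C.phi_X]
      rw [← C.fr_apply, map_neg, map_one]
  have e1 : C.phi (C.Z.og k 1) = C.Z.og k 1 := by
    simp only [Frame.og, prodX]
    exact hp _
  have e2 : C.phi (C.Z.ogn k (-1)) = C.Z.ogn k (-1) := by
    simp only [Frame.ogn, prodX]
    have := hn ((fd.orth k).map (MT.S).neg)
    simpa [List.map_map, Function.comp_def] using this
  show C.phi (C.Z.nJ k) = C.Z.nJ k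
  simp only [Frame.nJ, map_mul, e1, e2]

theorem og_mem_M (k : Fin 4) : C.Z.og k 1 ∈ C.M := by
  refine C.mem_M.2 ⟨(og_mem C.Z C.hq.pos.ne' k).1, ?_⟩
  simp only [Frame.og, prodX]
  induction (fd.orth k) with
  | nil => simp
  | cons r L ih => simp only [List.map_cons, List.prod_cons, map_mul, ih, C.phi_X, one_pow]

theorem phi_nW (W : List (Fin 4)) : C.phi (C.dat.nW W) = C.dat.nW W := by
  induction W with
  | nil => simp
  | cons k W ih => rw [C.dat.nW_cons, map_mul, ih, C.phi_nJ]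

theorem nW_mem_M (W : List (Fin 4)) : C.dat.nW W ∈ C.M := C.mem_M.2 ⟨C.dat.nW_mem W, C.phi_nW W⟩

theorem aw_eq (W : List (Fin 4)) : C.dat.aw W = fd.O.word W := rfl

/-- conjugation by a word moves root elements by rational constants -/
theorem nW_conj (W : List (Fin 4)) (r : Ix) :
    ∃ c : F, c ≠ 0 ∧ c ^ C.q = c ∧
      ∀ t, C.dat.nW W * X r t * (C.dat.nW W)⁻¹ = X ((MT.S).actw (fd.O.word W) r) (c * t) := by
  obtain ⟨c, hc, he⟩ := (C.dat.nW_coset W).conj_x r
  refine ⟨c, hc, ?_, fun t => he t⟩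
  have h := congrArg C.phi (he 1)
  rw [map_mul, map_mul, map_inv, C.phi_nW, C.phi_X, one_pow, he, C.phi_X, mul_one] at h
  exact (x_param_inj MT _ h).symm

include C in
theorem actw_rho (W : List (Fin 4)) (r : Ix) :
    (MT.S).actw (fd.O.word W) (fd.O.rho r) = fd.O.rho ((MT.S).actw (fd.O.word W) r) := by
  induction W generalizing r with
  | nil => rfl
  | cons k W ih =>
    rw [show fd.O.word (k :: W) = fd.O.wd k ++ fd.O.word W by simp [OrbitData.word],
      RootIdx.actw_append, RootIdx.actw_append, ih, (OrbitData.cls_root (Frame.O_ok C.Z) k _).2.1]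

/-- rational root elements at fixed roots -/
theorem single_mem {r : Ix} (hr : fd.O.rho r = r) {t : F} (ht : t ^ C.q = t) : X r t ∈ C.M := by
  obtain ⟨W, hW⟩ := exists_word (reach_single r hr)
  obtain ⟨c, hc, hcq, he⟩ := C.nW_conj W 46
  have h46 : X (46 : Ix) (t / c) ∈ C.M := C.mem_M.2 ⟨one_mem_G C.Z (by decide) (by rw [div_pow, ht, hcq]),
    by rw [C.phi_X, div_pow, ht, hcq]⟩
  have := mul_mem (mul_mem (C.nW_mem_M W) h46) (inv_mem (C.nW_mem_M W))
  rwa [he, hW, mul_div_cancel₀ t hc] at this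

/-- root elements at moved roots -/
theorem pair_mem {r : Ix} (hr : fd.O.rho r ≠ r) (t : F) :
    ∃ u, X r t * X (fd.O.rho r) u ∈ C.G1 ∧ (t ^ C.q = t → u ^ C.q = u) ∧ (t ≠ 0 → u ≠ 0) := by
  obtain ⟨W, hW⟩ := exists_word (reach_pair r hr)
  obtain ⟨c, hc, hcq, he⟩ := C.nW_conj W 42
  obtain ⟨c', hc', hcq', he'⟩ := C.nW_conj W 37
  refine ⟨c' * (t / c) ^ C.q, ?_, fun h => ?_, fun h => ?_⟩
  · have h0 := pair_mem_G C.Z (p := (42, 37)) (by decide) (t / c)
    have e : prodX MT (relsOfCommGood ChevCore.commGoodE6 F) [(42 : Ix), 37] (duo C.q 42 (t / c)) =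
        X (42 : Ix) (t / c) * X (37 : Ix) ((t / c) ^ C.q) := by
      simp [prodX, duo]
    rw [e] at h0
    have := mul_mem (mul_mem (C.dat.nW_mem W) h0) (inv_mem (C.dat.nW_mem W))
    have e2 : C.dat.nW W * (X (42 : Ix) (t / c) * X (37 : Ix) ((t / c) ^ C.q)) * (C.dat.nW W)⁻¹ =
        (C.dat.nW W * X (42 : Ix) (t / c) * (C.dat.nW W)⁻¹) *
        (C.dat.nW W * X (37 : Ix) ((t / c) ^ C.q) * (C.dat.nW W)⁻¹) := by group
    rw [e2, he, he', hW, mul_div_cancel₀ t hc,
      show (37 : Ix) = fd.O.rho 42 from by decide, C.actw_rho, hW] at this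
    exact this
  · rw [mul_pow, hcq', div_pow, h, hcq, div_pow, h, hcq]
  · exact mul_ne_zero hc' (pow_ne_zero _ (div_ne_zero h hc))

theorem x_zero_of_moved {r : Ix} (hr : fd.O.rho r ≠ r) {v : F} (h : X r v ∈ C.G1) : v = 0 := by
  by_contra hv
  have := C.sig_fix h
  rw [C.sig_X] at this
  exact hr (Chev54.x_root_sep MT (relsOfCommGood ChevCore.commGoodE6 F) this.symm hv)

end Cq

end Cfsg.Agent.E6Sub
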