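import Cfsg.Agent.E6Sub.Climb

/-!
Rational points in the Borel subgroup, and the criterion: an element whose conjugates of enough rational root
elements are rational is rational.
-/

set_option autoImplicit false
set_option maxRecDepth 4000

namespace Cfsg.Agent.E6Sub

open Cfsg.Lie Cfsg.Agent.ChevCore Cfsg.Agent.ChevGroup Cfsg.Agent.ChevIsogeny Cfsg.Agent.Chev54
open Cfsg.Agent.Twisted Cfsg.Agent.Twisted.TypeE6

variable {F : Type*} [Field F]

theorem simple_orth : ∀ j : Fin MT.tab.l, ∃ k : Fin 4, (MT.S).simple j ∈ fd.orth k := by decide +kernel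

theorem vec_facts : ∀ r : Ix, ∑ j, fd.O.vec r j = ht chevE6 r.val ∧ fd.O.vec r 1 = coef chevE6 r.val 1 ∧
    (1 ≤ ht chevE6 r.val → 0 ≤ coef chevE6 r.val 1) := by decide +kernel

theorem simple_cls : ∀ j : Fin MT.tab.l, ∃ k : Fin 4, (MT.S).simple j ∈ fd.O.cls k := by decide +kernel

theorem orbit_cls : ∀ k : Fin 4, ∀ r ∈ fd.O.cls k, ∀ s ∈ fd.O.cls k,
    s = r ∨ s = fd.O.rho r ∨ s = fd.O.rho (fd.O.rho r) := by decide +kernel

theorem diff_cert : ∀ r : Ix, 1 ≤ ht chevE6 r.val → ¬ 1 ≤ coef chevE6 r.val 1 →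
    ∃ a : Ix, 1 ≤ coef chevE6 a.val 1 ∧ ∃ b : Ix, 1 ≤ coef chevE6 b.val 1 ∧
      fd.O.vec b = (fun j => fd.O.vec r j + fd.O.vec a j) ∧
      fd.O.vec (fd.O.rho b) = fun j => fd.O.vec (fd.O.rho r) j + fd.O.vec (fd.O.rho a) j := by
  decide +kernel

/-- positive coefficient at the second fundamental root -/
abbrev PQ (r : ℕ) : Prop := 1 ≤ coef chevE6 r 1

theorem upSet_PQ : UpSet chevE6 PQ := by
  intro r s hr hs hr1 hs1
  have hG := uGoodE6.toCommGood.toGood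
  have h0 : 0 ≤ coef chevE6 r 1 := (vec_facts ⟨r, hr⟩).2.2 hr1
  refine ⟨fun e => ?_, fun c hc => ?_⟩
  · subst e
    have := hG.coef_neg hr (show 1 < chevE6.rank by decide)
    simp only [PQ, this] at hs1
    omega
  · obtain ⟨-, -, h3, h4⟩ := hG.commTerms_coef hr hs hc
    show 1 ≤ coef chevE6 c.1 1
    rw [h4 1 (by decide)]
    have a3 : (1 : ℤ) ≤ c.2.2.2 := by exact_mod_cast h3
    have b2 := mul_nonneg (show (0 : ℤ) ≤ c.2.2.1 by positivity) h0
    have b3 := mul_le_mul a3 hs1 zero_le_one (by positivity)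
    omega

theorem Sg_val {T : Ix → Prop} {S : Set ℕ} (h : ∀ r : Ix, T r ↔ r.val ∈ S) (g : Gp F) :
    g ∈ Sg (R0 F) T ↔ (g : GL chevE6.Idx F) ∈ XS chevE6 F S := by
  have e : (Sg (R0 F) T).map (chevE6.group F).subtype = XS chevE6 F S := by
    refine le_antisymm ?_ (XS_le fun r t hr hS => ⟨X ⟨r, hr⟩ t, x_mem_Sg _ ((h ⟨r, hr⟩).2 hS) t, val_X _ _⟩)
    rw [Sg, MonoidHom.map_closure, Subgroup.closure_le]
    rintro _ ⟨_, ⟨r, t, hr, rfl⟩, rfl⟩
    show ((X r t : Gp F) : GL chevE6.Idx F) ∈ _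
    rw [val_X]
    exact xg_mem_XS r.isLt ((h r).1 hr) t
  rw [← e]
  exact (Subgroup.mem_map_iff_mem Subtype.coe_injective).symm

/-- the cut at height `m` -/
noncomputable def cutG (F : Type*) [Field F] (m : ℤ) : Subgroup (Gp F) :=
  Sg (R0 F) fun r : Ix => m ≤ ht chevE6 r.val ∧ PQ r.val

theorem mem_cutG {m : ℤ} {g : Gp F} :
    g ∈ cutG F m ↔ (g : GL chevE6.Idx F) ∈ XS chevE6 F (cut chevE6 PQ m) := by
  rw [cutG]
  refine Sg_val (T := fun r : Ix => m ≤ ht chevE6 r.val ∧ PQ r.val) (S := cut chevE6 PQ m) (fun r => ?_) g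
  simp only [cut, Set.mem_setOf_eq]

theorem cutG_le_Um {m : ℤ} : cutG F m ≤ Um F m := fun g hg => by
  rw [mem_Um]
  exact XS_mono (fun r (hr : r ∈ cut chevE6 PQ m) => hr.1) (mem_cutG.1 hg)

theorem one_of_Um_V [Finite F] {m : ℤ} (hm : 1 ≤ m) {g : Gp F} (hU : g ∈ Um F m) (hV : g ∈ V (R0 F)) :
    g = 1 :=
  U_inter_V (R0 F) (MT.shapeR _) (by rw [U_eq]; exact Um_mono hm hU) hV

/-- the sum of a root and its image -/
def fsum (r : Ix) (j : Fin MT.tab.l) : ℤ := fd.O.vec r j + fd.O.vec (fd.O.rho r) j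

theorem fsum_rho (r : Ix) : fsum (fd.O.rho r) = fsum r := by
  funext j
  simp only [fsum, rho_rho]
  ring

theorem ht_rho (r : Ix) : ht chevE6 (fd.O.rho r).val = ht chevE6 r.val := by
  rw [(rn_facts r).1, ht_rn]

theorem of_fsum_eq {r s : Ix} (h : fsum r = fsum s) :
    ht chevE6 r.val = ht chevE6 s.val ∧ coef chevE6 r.val 1 = coef chevE6 s.val 1 := by
  have h1 : ∑ j, fsum r j = ∑ j, fsum s j := by rw [h]
  simp only [fsum, Finset.sum_add_distrib, (vec_facts _).1, ht_rho] at h1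
  have h2 := congrFun h 1
  simp only [fsum, (vec_facts _).2.1, coef_rho] at h2
  omega

namespace Cq

variable [Fintype F] (C : Cq F)

theorem longest : C.dat.Longest W0 := C.gens'.longest long_ok

theorem split' : C.dat.Split := C.gens'.split

theorem exists_U1_H1' {b : Gp F} (hb : b ∈ C.G1) (hB : b ∈ (R0 F).B) :
    ∃ u ∈ C.dat.U1, ∃ h ∈ C.dat.H1, u * h = b :=
  C.dat.exists_U1_H1 (MT.shapeR _) C.longest (Subgroup.mem_inf.2 ⟨hb, hB⟩)

theorem phi_H {h : Gp F} (hh : h ∈ (R0 F).H) : C.phi h ∈ (R0 F).H := by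
  have hle : (R0 F).H ≤ (R0 F).H.comap C.phi := by
    refine (Subgroup.closure_le _).2 ?_
    rintro _ ⟨r, c, hc, rfl⟩
    have hn : ∀ e : F, C.phi ((R0 F).nr r e) = (R0 F).nr r (e ^ C.q) := fun e => by
      show C.phi (X r e * X _ (-e⁻¹) * X r e) = X r (e ^ C.q) * X _ (-(e ^ C.q)⁻¹) * X r (e ^ C.q)
      rw [map_mul, map_mul, C.phi_X, C.phi_X, ← C.fr_apply (-e⁻¹), map_neg, map_inv₀, C.fr_apply]
    show C.phi ((R0 F).hr r c) ∈ (R0 F).H
    refine (?_ : (R0 F).hr r (c ^ C.q) = C.phi ((R0 F).hr r c)) ▸ (R0 F).hr_mem_H (pow_ne_zero _ hc)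
    show (R0 F).nr r (c ^ C.q) * (R0 F).nr r (-1) = C.phi ((R0 F).nr r c * (R0 F).nr r (-1))
    rw [map_mul, hn, hn, C.pm_pow (Or.inr rfl)]
  exact hle hh

theorem phi_U {u : Gp F} (hu : u ∈ (R0 F).U) : C.phi u ∈ (R0 F).U := by
  rw [U_eq] at hu ⊢
  exact C.phi_Um hu

theorem phi_B {b : Gp F} (hb : b ∈ (R0 F).B) : C.phi b ∈ (R0 F).B := by
  obtain ⟨u, hu, h, hh, rfl⟩ := (R0 F).mem_B_iff.1 hb
  rw [map_mul]
  exact mul_mem ((R0 F).U_le_B (C.phi_U hu)) ((R0 F).H_le_B (C.phi_H hh))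

theorem phi_V {v : Gp F} (hv : v ∈ V (R0 F)) : C.phi v ∈ V (R0 F) := by
  have hle : V (R0 F) ≤ (V (R0 F)).comap C.phi := by
    refine (Subgroup.closure_le _).2 ?_
    rintro _ ⟨r, t, hr, rfl⟩
    show C.phi (X r t) ∈ V (R0 F)
    rw [C.phi_X]
    exact x_mem_Sg _ (T := fun r : Ix => (MT.S).pos ((MT.S).neg r)) hr _
  exact hle hv

variable {C} {H : Subgroup (Gp F)} (hH : Mid C H) (hne : H ≠ C.G1)
include hH hne

/-- the Borel part -/
theorem Mid.B_le_M {b : Gp F} (hb : b ∈ H) (hB : b ∈ (R0 F).B) : b ∈ C.M := by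
  obtain ⟨u, hu, h, hh, rfl⟩ := C.exists_U1_H1' (hH.le1 hb) hB
  obtain ⟨c, rfl⟩ := C.Z.exists_tor torOk hh.2
  have huU : u ∈ Um F 1 := by rw [← U_eq]; exact hu.2
  have hrat : ∀ (k : Fin 4), ∀ a ∈ fd.orth k, (chi MT c a : F) ^ C.q = chi MT c a := by
    intro k a ha
    obtain ⟨hnd, hht⟩ := orth_facts k
    have hog : ((fd.orth k).map fun x => X x (1 : F)).prod ∈ C.M := C.og_mem_M k
    have key : ∀ L : List Ix, L.Nodup → (∀ x ∈ L, x ∈ fd.orth k) →
        (tor MT (relsOfCommGood ChevCore.commGoodE6 F) c * (L.map fun x => X x (1 : F)).prod *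
          (tor MT (relsOfCommGood ChevCore.commGoodE6 F) c)⁻¹ ∈ Um F 1) ∧
        ∃ e, Vec 1 ((tor MT (relsOfCommGood ChevCore.commGoodE6 F) c * (L.map fun x => X x (1 : F)).prod *
          (tor MT (relsOfCommGood ChevCore.commGoodE6 F) c)⁻¹ : Gp F) : GL chevE6.Idx F) e ∧
          e a.val = if a ∈ L then (chi MT c a : F) else 0 := by
      intro L
      induction L with
      | nil =>
        intro _ _
        exact ⟨by simp [one_mem], fun _ => 0, by simpa using vec_of_next uGoodE6 (one_mem _), by simp⟩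
      | cons x L ih =>
        intro hnd hsub
        rw [List.nodup_cons] at hnd
        obtain ⟨hm, e, he, hea⟩ := ih hnd.2 fun z hz => hsub z (List.mem_cons_of_mem _ hz)
        have hx1 := hht x (hsub x (List.mem_cons_self ..))
        have e1 : tor MT (relsOfCommGood ChevCore.commGoodE6 F) c * ((x :: L).map fun x => X x (1 : F)).prod *
            (tor MT (relsOfCommGood ChevCore.commGoodE6 F) c)⁻¹ = X x (chi MT c x : F) *
            (tor MT (relsOfCommGood ChevCore.commGoodE6 F) c * (L.map fun x => X x (1 : F)).prod *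
              (tor MT (relsOfCommGood ChevCore.commGoodE6 F) c)⁻¹) := by
          have h0 : tor MT (relsOfCommGood ChevCore.commGoodE6 F) c * X x (1 : F) *
              (tor MT (relsOfCommGood ChevCore.commGoodE6 F) c)⁻¹ = X x ((chi MT c x : F) * 1) :=
            C.Z.tor_conj c x (1 : F)
          rw [mul_one] at h0
          simp only [List.map_cons, List.prod_cons]
          rw [← h0]
          group
        rw [e1]
        refine ⟨mul_mem (X_mem_Um hx1.ge _) hm, Pi.single x.val (chi MT c x : F) + e, ?_, ?_⟩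
        · rw [Subgroup.coe_mul]
          exact (vec_X le_rfl hx1 _).mul uGoodE6 le_rfl he
        · rw [Pi.add_apply, hea]
          by_cases hax : a = x
          · subst hax
            simp [hnd.1]
          · simp [hax, Pi.single_eq_of_ne (fun e => hax (Fin.ext e))]
    obtain ⟨hm, e, he, hea⟩ := key _ hnd fun _ h => h
    rw [if_pos ha] at hea
    set P := ((fd.orth k).map fun x => X x (1 : F)).prod
    set t := tor MT (relsOfCommGood ChevCore.commGoodE6 F) c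
    have hy : u * (t * P * t⁻¹) * u⁻¹ ∈ H := by
      have := mul_mem (mul_mem hb (hH.le hog)) (inv_mem hb)
      rwa [show u * t * P * (u * t)⁻¹ = u * (t * P * t⁻¹) * u⁻¹ by group] at this
    have hyU : u * (t * P * t⁻¹) * u⁻¹ ∈ (R0 F).U := by
      rw [U_eq]; exact mul_mem (mul_mem huU hm) (inv_mem huU)
    have hfix := (C.mem_M.1 (hH.U_le_M hne hy hyU)).2
    have he2 : Vec 1 ((u * (t * P * t⁻¹) * u⁻¹ : Gp F) : GL chevE6.Idx F) e := by
      rw [Subgroup.coe_mul, Subgroup.coe_mul, Subgroup.coe_inv]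
      exact he.conj uGoodE6 le_rfl huU
    have he3 := C.phi_vec he2
    rw [hfix] at he3
    have := congrFun (he2.unique uGoodE6 le_rfl he3) a.val
    rw [hea] at this
    exact this.symm
  have hall : ∀ s, (chi MT c s) ^ C.q = chi MT c s := by
    intro s
    rw [C.Z.chi_eq torOk c s, ← Finset.prod_pow]
    refine Finset.prod_congr rfl fun j _ => ?_
    obtain ⟨k, hk⟩ := simple_orth j
    have : chi MT c ((MT.S).simple j) ^ C.q = chi MT c ((MT.S).simple j) :=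
      Units.ext (by rw [Units.val_pow_eq_pow_val]; exact hrat k _ hk)
    rw [← zpow_natCast, ← zpow_mul, mul_comm, zpow_mul, zpow_natCast, this]
  have hfix : C.phi (tor MT (relsOfCommGood ChevCore.commGoodE6 F) c) =
      tor MT (relsOfCommGood ChevCore.commGoodE6 F) c := by
    refine C.Z.H_ext (C.phi_H hh.2) hh.2 fun s t => ?_
    have := congrArg C.phi (C.Z.tor_conj c s (t ^ C.q))
    rw [map_mul, map_mul, map_inv, C.phi_X, C.phi_X, mul_pow, C.per,
      ← Units.val_pow_eq_pow_val, hall s] at this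
    exact this.trans (C.Z.tor_conj c s t).symm
  have hhM : tor MT (relsOfCommGood ChevCore.commGoodE6 F) c ∈ C.M := C.mem_M.2 ⟨hh.1, hfix⟩
  have huH : u ∈ H := by
    have := mul_mem hb (inv_mem (hH.le hhM))
    rwa [mul_inv_cancel_right] at this
  exact mul_mem (hH.U_le_M hne huH hu.2) hhM

omit hne in
/-- the Bruhat form of an element of the twisted group -/
theorem Mid.bruhat {g : Gp F} (hg : g ∈ C.G1) : ∃ p ∈ C.dat.U1, ∃ W : List (Fin 4), ∃ c ∈ C.dat.B1,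
    g = p * C.dat.nW W * c ∧ (C.dat.nW W)⁻¹ * p * C.dat.nW W ∈ V (R0 F) := by
  obtain ⟨W, hW⟩ := C.dat.exists_bruhat (MT.shapeR _) C.longest C.split' hg
  obtain ⟨b, hb, hbe⟩ := mem_cell.1 hW
  rw [QuotientGroup.eq] at hbe
  obtain ⟨W', hred, hW'⟩ := C.dat.exists_red_word (fun r hr => by
      have := (OrbitData.root_of (Frame.O_ok C.Z) ((MT.S).neg r)).1 hr
      rwa [(OrbitData.root_of (Frame.O_ok C.Z) r).2.1] at this)
    (OrbitData.invol (Frame.O_ok C.Z)) (fun k r => (OrbitData.cls_root (Frame.O_ok C.Z) k r).2.1)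
    simple_cls orbit_cls (C.dat.aw W).reverse
    (fun r => OrbitData.word_comm (Frame.O_ok C.Z) W r)
  have hperm : ∀ r, (MT.S).actw (C.dat.aw W) r = (MT.S).actw (C.dat.aw W') r := fun r => by
    have := hW' ((MT.S).actw (C.dat.aw W) r)
    rw [(MT.S).actw_reverse'] at this
    conv_rhs => rw [← this]
    rw [(MT.S).actw_reverse]
  have hd := C.dat.mem_H1_of_perm hperm
  set n := C.dat.nW W' with hn
  have hb' : n⁻¹ * C.dat.nW W * ((b * C.dat.nW W)⁻¹ * g) ∈ C.dat.B1 :=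
    mul_mem (C.dat.H1_le_B1 hd) hbe
  obtain ⟨u, hu, h, hh, rfl⟩ := C.exists_U1_H1' hb.1 hb.2
  obtain ⟨p, hp, q', hq', hpv, hqu, rfl⟩ := C.dat.U_split (MT.shapeR _) W' hred u hu.2
  change n⁻¹ * p * n ∈ V (R0 F) at hpv
  change n⁻¹ * q' * n ∈ (R0 F).U at hqu
  set c := n⁻¹ * q' * n * (n⁻¹ * h * n) * (n⁻¹ * C.dat.nW W * ((p * q' * h * C.dat.nW W)⁻¹ * g)) with hc
  have hcB : c ∈ (R0 F).B := by
    refine mul_mem (mul_mem ((R0 F).U_le_B hqu) ((R0 F).H_le_B ?_)) hb'.2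
    have := mono_conj_H (R0 F) (inv_mem (C.dat.nW_coset W').mem_mono) hh.2
    rwa [inv_inv] at this
  have e : g = p * n * c := by rw [hc]; group
  have hnG : n ∈ C.G1 := C.dat.nW_mem W'
  have hσp : C.dat.σ p = p := by
    have hfix := C.dat.fixed g hg
    rw [e, map_mul, map_mul, C.dat.fixed _ hnG] at hfix
    have e2 : n⁻¹ * (p⁻¹ * C.dat.σ p) * n = c * (C.dat.σ c)⁻¹ := by
      rw [eq_mul_inv_iff_mul_eq]
      calc n⁻¹ * (p⁻¹ * C.dat.σ p) * n * C.dat.σ c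
          = n⁻¹ * p⁻¹ * (C.dat.σ p * n * C.dat.σ c) := by group
        _ = c := by rw [hfix]; group
    have hσv : n⁻¹ * C.dat.σ p * n ∈ V (R0 F) := by
      have := C.dat.σ_Sg (T := fun r => (MT.S).pos ((MT.S).neg r))
        (T' := fun r => (MT.S).pos ((MT.S).neg r)) (fun r hr => by
          have := (OrbitData.root_of (Frame.O_ok C.Z) ((MT.S).neg r)).1 hr
          rwa [(OrbitData.root_of (Frame.O_ok C.Z) r).2.1] at this) hpv
      rwa [map_mul, map_mul, map_inv, C.dat.fixed _ hnG] at this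
    have hv : n⁻¹ * (p⁻¹ * C.dat.σ p) * n ∈ V (R0 F) := by
      simpa [mul_assoc] using mul_mem (inv_mem hpv) hσv
    have h1 := Data.one_of_B_of_V (MT.shapeR _) (e2 ▸ mul_mem hcB (inv_mem (C.dat.σ_B hcB))) hv
    have := conj_eq_one_iff.1 (show n⁻¹ * (p⁻¹ * C.dat.σ p) * (n⁻¹)⁻¹ = 1 by rwa [inv_inv])
    exact (inv_mul_eq_one.1 this).symm
  have hp1 := C.dat.mem_U1_of_fixed (MT.shapeR _) C.longest hp hσp
  refine ⟨p, hp1, W', c, Subgroup.mem_inf.2 ⟨?_, hcB⟩, e, hpv⟩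
  have := (C.G1).mul_mem ((C.G1).inv_mem ((C.G1).mul_mem hp1.1 hnG)) hg
  rwa [e, inv_mul_cancel_left] at this

/-- uniqueness in a cell: if `g⁻¹ φ g` lies in the Borel subgroup, `g` is rational -/
theorem Mid.mem_of_z {g : Gp F} (hg : g ∈ H) (hz : g⁻¹ * C.phi g ∈ (R0 F).B) : g ∈ C.M := by
  obtain ⟨p, hp, W, c, hc, e, hpv⟩ := hH.bruhat (hH.le1 hg)
  set n := C.dat.nW W with hn
  change n⁻¹ * p * n ∈ V (R0 F) at hpv
  set z := g⁻¹ * C.phi g with hz'
  have hφ : C.phi p * n * C.phi c = p * n * c * z := by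
    rw [← e, hz', mul_inv_cancel_left, e, map_mul, map_mul, C.phi_nW]
  have e2 : n⁻¹ * (p⁻¹ * C.phi p) * n = c * z * (C.phi c)⁻¹ := by
    rw [eq_mul_inv_iff_mul_eq]
    calc n⁻¹ * (p⁻¹ * C.phi p) * n * C.phi c
        = n⁻¹ * p⁻¹ * (C.phi p * n * C.phi c) := by group
      _ = c * z := by rw [hφ]; group
  have hv : n⁻¹ * (p⁻¹ * C.phi p) * n ∈ V (R0 F) := by
    have h1 := C.phi_V hpv
    rw [hn, map_mul, map_mul, map_inv, C.phi_nW, ← hn] at h1
    simpa [mul_assoc] using mul_mem (inv_mem hpv) h1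
  have h1 := Data.one_of_B_of_V (MT.shapeR _)
    (e2 ▸ mul_mem (mul_mem hc.2 hz) (inv_mem (C.phi_B hc.2))) hv
  have h2 := conj_eq_one_iff.1 (show n⁻¹ * (p⁻¹ * C.phi p) * (n⁻¹)⁻¹ = 1 by rwa [inv_inv])
  have hpM : p ∈ C.M := C.mem_M.2 ⟨hp.1, (inv_mul_eq_one.1 h2).symm⟩
  have hcH : c ∈ H := by
    have := mul_mem (inv_mem (mul_mem (hH.le hpM) (hH.le (C.nW_mem_M W)))) hg
    rwa [e, inv_mul_cancel_left] at this
  rw [e]
  exact mul_mem (mul_mem hpM (C.nW_mem_M W)) (hH.B_le_M hne hcH hc.2)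

omit hne hH

variable (C)

/-- conjugation of an orbit element by the Borel subgroup -/
theorem B_conj {δ : Ix} (hδ : PQ δ.val) {a b : F} (ha : a ≠ 0) (hb : fd.O.rho δ = δ → b = 0)
    {β : Gp F} (hβ : β ∈ (R0 F).B) :
    ∃ c ∈ cutG F (ht chevE6 δ.val + 1), ∃ a' b' : F, a' ≠ 0 ∧ (fd.O.rho δ = δ → b' = 0) ∧
      β * (X δ a * X (fd.O.rho δ) b) * β⁻¹ = c * (X δ a' * X (fd.O.rho δ) b') := by
  obtain ⟨u, hu, h, hh, rfl⟩ := (R0 F).mem_B_iff.1 hβ
  obtain ⟨k1, hk1, e1⟩ := (R0 F).H_scales hh δ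
  obtain ⟨k2, -, e2⟩ := (R0 F).H_scales hh (fd.O.rho δ)
  have e : u * h * (X δ a * X (fd.O.rho δ) b) * (u * h)⁻¹ =
      u * ((h * X δ a * h⁻¹) * (h * X (fd.O.rho δ) b * h⁻¹)) * u⁻¹ := by group
  rw [e, e1, e2]
  set y : Gp F := (R0 F).x δ (k1 * a) * (R0 F).x (fd.O.rho δ) (k2 * b)
  have hδ1 : 1 ≤ ht chevE6 δ.val := coef_pos δ hδ
  have hy : y ∈ cutG F (ht chevE6 δ.val) :=
    mul_mem (x_mem_Sg _ (T := fun r : Ix => ht chevE6 δ.val ≤ ht chevE6 r.val ∧ PQ r.val) ⟨le_rfl, hδ⟩ _)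
      (x_mem_Sg _ (T := fun r : Ix => ht chevE6 δ.val ≤ ht chevE6 r.val ∧ PQ r.val)
        ⟨(ht_rho δ).ge, show 1 ≤ coef chevE6 _ 1 by rw [coef_rho]; exact hδ⟩ _)
  refine ⟨u * y * u⁻¹ * y⁻¹, ?_, k1 * a, k2 * b, mul_ne_zero hk1 ha, fun h => by rw [hb h, mul_zero],
    (show u * y * u⁻¹ = u * y * u⁻¹ * y⁻¹ * y by group)⟩
  rw [mem_cutG]
  simp only [Subgroup.coe_mul, Subgroup.coe_inv]
  have hu' : (u : GL chevE6.Idx F) ∈ XS chevE6 F (htGe chevE6 1) := by rwa [U_eq] at hu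
  exact comm_cut uGoodE6 upSet_PQ hδ1 hu' (mem_cutG.1 hy)

/-- the layer coordinates of an orbit element -/
theorem orbit_vec {δ : Ix} (h : 1 ≤ ht chevE6 δ.val) {a b : F} (hb : fd.O.rho δ = δ → b = 0) :
    ∃ d, Vec (ht chevE6 δ.val) ((X δ a * X (fd.O.rho δ) b : Gp F) : GL chevE6.Idx F) d ∧ d δ.val = a ∧
      ∀ s : Ix, d s.val ≠ 0 → fsum s = fsum δ := by
  refine ⟨_, vec_X_mul h rfl (ht_rho δ) a b, ?_, fun s hs => ?_⟩
  · by_cases hδ : fd.O.rho δ = δ
    · simp [hδ, hb hδ]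
    · simp [Pi.single_eq_of_ne (show δ.val ≠ (fd.O.rho δ).val from fun e => hδ (Fin.ext e.symm))]
  · by_cases h1 : s = δ
    · rw [h1]
    by_cases h2 : s = fd.O.rho δ
    · rw [h2, fsum_rho]
    simp [Pi.single_eq_of_ne (fun e => h1 (Fin.ext e)), Pi.single_eq_of_ne (fun e => h2 (Fin.ext e))] at hs

/-- an element commuting with one element in each orbit of `Q` lies in the Borel subgroup -/
theorem z_mem_B {z : Gp F} (hz : z ∈ C.G1)
    (hc : ∀ δ : Ix, PQ δ.val → ∃ a b : F, a ≠ 0 ∧ (fd.O.rho δ = δ → b = 0) ∧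
      Commute z (X δ a * X (fd.O.rho δ) b)) : z ∈ (R0 F).B := by
  obtain ⟨W, hW⟩ := C.dat.exists_bruhat (MT.shapeR _) C.longest C.split' hz
  obtain ⟨b₀, hb₀, hbe⟩ := mem_cell.1 hW
  rw [QuotientGroup.eq] at hbe
  set n := C.dat.nW W with hn
  set b₁ := (b₀ * n)⁻¹ * z with hb₁
  have ez : z = b₀ * n * b₁ := by rw [hb₁, mul_inv_cancel_left]
  set act : Ix → Ix := (MT.S).actw (fd.O.word W) with hact
  have hinj : Function.Injective act := fun r s e => by
    have := congrArg ((MT.S).actw (fd.O.word W).reverse) e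
    simpa [hact, (MT.S).actw_reverse'] using this
  have hρ : ∀ r, act (fd.O.rho r) = fd.O.rho (act r) := C.actw_rho W
  -- the orbits of `Q` are fixed, by downward induction on the height
  have key : ∀ (k : ℕ) (δ : Ix), PQ δ.val → 12 ≤ ht chevE6 δ.val + k → fsum (act δ) = fsum δ := by
    intro k
    induction k with
    | zero => intro δ _ h; have := (ht_ne δ).2; omega
    | succ k ih =>
      intro δ hδ hk
      push_cast at hk
      obtain ⟨a, b, ha, hb, hcomm⟩ := hc δ hδ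
      set m := ht chevE6 δ.val
      have hm : 1 ≤ m := coef_pos δ hδ
      have hcut : ∀ g ∈ cutG F (m + 1), n * g * n⁻¹ ∈ cutG F (m + 1) := fun g hg =>
        (C.dat.nW_coset W).conj_Sg (R0 F) (fun r hr => by
          obtain ⟨h1, h2⟩ := hr
          obtain ⟨e1, e2⟩ := of_fsum_eq (ih r h2 (by omega))
          exact ⟨by show m + 1 ≤ ht chevE6 (act r).val; omega,
            by show 1 ≤ coef chevE6 (act r).val 1; rw [e2]; exact h2⟩) hg
      obtain ⟨c₁, hc₁, a₁, b₁', ha₁, hb₁', e₁⟩ := B_conj hδ ha hb hbe.2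
      obtain ⟨c₂, hc₂, a₂, b₂, ha₂, hb₂, e₂⟩ := B_conj hδ ha hb (inv_mem hb₀.2)
      rw [inv_inv] at e₂
      have heq : n * (c₁ * (X δ a₁ * X (fd.O.rho δ) b₁')) * n⁻¹ = c₂ * (X δ a₂ * X (fd.O.rho δ) b₂) := by
        rw [← e₁, ← e₂]
        have h := hcomm.eq
        rw [← mul_inv_eq_iff_eq_mul, ez] at h
        calc n * (b₁ * (X δ a * X (fd.O.rho δ) b) * b₁⁻¹) * n⁻¹
            = b₀⁻¹ * (b₀ * n * b₁ * (X δ a * X (fd.O.rho δ) b) * (b₀ * n * b₁)⁻¹) * b₀ := by group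
          _ = b₀⁻¹ * (X δ a * X (fd.O.rho δ) b) * b₀ := by rw [h]
      obtain ⟨k1, hk1, -, he1⟩ := C.nW_conj W δ
      obtain ⟨k2, -, -, he2⟩ := C.nW_conj W (fd.O.rho δ)
      set r := act δ with hr
      set a₃ := k1 * a₁ with ha₃'
      set b₃ := k2 * b₁' with hb₃'
      have ha₃ : a₃ ≠ 0 := mul_ne_zero hk1 ha₁
      have hb₃ : fd.O.rho r = r → b₃ = 0 := fun e => by
        rw [hb₃', hb₁' (hinj (by rw [hρ]; exact e)), mul_zero]
      have he3 : n * (X δ a₁ * X (fd.O.rho δ) b₁') * n⁻¹ = X r a₃ * X (fd.O.rho r) b₃ := by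
        have e : n * (X δ a₁ * X (fd.O.rho δ) b₁') * n⁻¹ =
            (n * X δ a₁ * n⁻¹) * (n * X (fd.O.rho δ) b₁' * n⁻¹) := by group
        rw [e, he1, he2, C.actw_rho]
      obtain ⟨d₂, hd₂, hd₂δ, hd₂s⟩ := orbit_vec hm hb₂ (a := a₂)
      set y := X r a₃ * X (fd.O.rho r) b₃
      have hy : y = (n * c₁ * n⁻¹)⁻¹ * c₂ * (X δ a₂ * X (fd.O.rho δ) b₂) := by
        rw [mul_assoc, ← heq, ← he3]
        group
      have hyv : Vec m ((y : Gp F) : GL chevE6.Idx F) d₂ := by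
        have h0 : (((n * c₁ * n⁻¹)⁻¹ * c₂ : Gp F) : GL chevE6.Idx F) ∈ XS chevE6 F (htGe chevE6 (m + 1)) :=
          cutG_le_Um (mul_mem (inv_mem (hcut _ hc₁)) hc₂)
        have := (vec_of_next uGoodE6 h0).mul uGoodE6 hm hd₂
        rw [show ((fun _ : ℕ => (0 : F)) + d₂) = d₂ from funext fun _ => zero_add _] at this
        rw [hy, Subgroup.coe_mul]
        exact this
      have hd0 : d₂ δ.val ≠ 0 := by rw [hd₂δ]; exact ha₂
      have hnot : y ∉ Um F (m + 1) := fun h =>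
        hd0 (congrFun (hyv.unique uGoodE6 hm (vec_of_next uGoodE6 h)) δ.val)
      rcases lt_or_gt_of_ne (ht_ne r).1 with hneg | hpos
      · exfalso
        have h1 : y ∈ V (R0 F) := mul_mem
          (x_mem_Sg _ (T := fun s : Ix => (MT.S).pos ((MT.S).neg s)) ((neg_iff r).2 (by omega)) _)
          (x_mem_Sg _ (T := fun s : Ix => (MT.S).pos ((MT.S).neg s))
            ((neg_iff _).2 (by rw [ht_rho]; omega)) _)
        exact hnot (by rw [one_of_Um_V hm (hyv.mem uGoodE6) h1]; exact one_mem _)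
      obtain ⟨d₃, hd₃, hd₃r, -⟩ := orbit_vec (show 1 ≤ ht chevE6 r.val by omega) hb₃ (a := a₃)
      rcases lt_trichotomy (ht chevE6 r.val) m with h | h | h
      · exfalso
        have h1 : y ∈ Um F (ht chevE6 r.val + 1) := Um_mono (by omega) (hyv.mem uGoodE6)
        have := congrFun (hd₃.unique uGoodE6 (by omega) (vec_of_next uGoodE6 h1)) r.val
        exact ha₃ (hd₃r ▸ this)
      · rw [h] at hd₃
        refine hd₂s r ?_
        rw [hyv.unique uGoodE6 hm hd₃, hd₃r]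
        exact ha₃
      · exfalso
        exact hnot (mul_mem (X_mem_Um (by omega) _) (X_mem_Um (by rw [ht_rho]; omega) _))
  have hpos : ∀ r, (MT.S).pos r → (MT.S).pos (act r) := by
    intro r hr
    rw [pos_iff] at hr ⊢
    suffices fsum (act r) = fsum r by rw [(of_fsum_eq this).1]; exact hr
    by_cases hr1 : PQ r.val
    · exact key 12 r hr1 (by omega)
    obtain ⟨a, ha, b, hb, e1, e2⟩ := diff_cert r hr hr1
    have f1 := key 12 a ha (by have := coef_pos a ha; omega)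
    have f2 := key 12 b hb (by have := coef_pos b hb; omega)
    have g1 := OrbitData.actw_vec (Frame.O_ok C.Z) (fd.O.word W) r a b e1
    have g2 := OrbitData.actw_vec (Frame.O_ok C.Z) (fd.O.word W) _ _ _ e2
    funext j
    have i1 := congrFun f1 j
    have i2 := congrFun f2 j
    have j1 := congrFun g1 j
    have j2 := congrFun g2 j
    have k1 := congrFun e1 j
    have k2 := congrFun e2 j
    simp only [fsum, ← hρ] at i1 i2 ⊢
    simp only [← hact] at j1 j2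
    omega
  have hnH : n ∈ (R0 F).H := by
    obtain ⟨t, ht, e⟩ := C.dat.nW_coset W
    rw [hn, e]
    exact mul_mem ht (nw_mem_H_of_pos (R0 F) hpos C.dat.x_ne C.dat.x_sep)
  rw [ez]
  exact mul_mem (mul_mem hb₀.2 ((R0 F).H_le_B hnH)) hbe.2

variable {C}
include hH hne

/-- enough conjugates of rational elements rational: the element is rational -/
theorem Mid.mem_of_conj {g : Gp F} (hg : g ∈ H)
    (hc : ∀ δ : Ix, PQ δ.val → ∃ a b : F, a ≠ 0 ∧ (fd.O.rho δ = δ → b = 0) ∧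
      C.phi (X δ a * X (fd.O.rho δ) b) = X δ a * X (fd.O.rho δ) b ∧
      C.phi (g * (X δ a * X (fd.O.rho δ) b) * g⁻¹) = g * (X δ a * X (fd.O.rho δ) b) * g⁻¹) :
    g ∈ C.M := by
  refine hH.mem_of_z hne hg (C.z_mem_B (mul_mem (inv_mem (hH.le1 hg)) (C.phi_G1 (hH.le1 hg))) fun δ hδ => ?_)
  obtain ⟨a, b, ha, hb, he, hge⟩ := hc δ hδ
  refine ⟨a, b, ha, hb, ?_⟩
  set e := X δ a * X (fd.O.rho δ) b
  rw [map_mul, map_mul, map_inv, he] at hge
  show g⁻¹ * C.phi g * e = e * (g⁻¹ * C.phi g)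
  calc g⁻¹ * C.phi g * e = g⁻¹ * (C.phi g * e * (C.phi g)⁻¹) * C.phi g := by group
    _ = g⁻¹ * (g * e * g⁻¹) * C.phi g := by rw [hge]
    _ = e * (g⁻¹ * C.phi g) := by group

end Cq

end Cfsg.Agent.E6Sub
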